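import Cfsg.Agent.TriSpec.Main
import Cfsg.Agent.Elementary.FiberSpectrum
import Mathlib.GroupTheory.SemidirectProduct

/-!
The split extension of `³D₄(2)` by its natural module has the same element orders.
-/

set_option autoImplicit false
set_option maxRecDepth 20000
set_option linter.unusedSectionVars false

namespace Cfsg.Lib.TriSpec

attribute [local irreducible] Tr.get evW powC mulC matC

open Cfsg.Lie Cfsg.Lib.TriSpec.Data

variable {K : Type*} [Field K] [Fintype K] [CharP K 2]

theorem exists_orders {G : Type*} [Group G] [Finite G] (R : Rep G K) :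
    ∀ n ∈ ({2, 4, 6, 8, 12, 14, 28} : Finset ℕ), ∃ g : G, orderOf g = n := by
  obtain ⟨hw, h8, h8', h12, h12', h12'', h28, h28', h28''⟩ := Cert.witnesses
  have hlen : witW.length = 3 := by decide
  have hA : ∀ k < 3, ∀ n, R.A (R.ev (witW.getD k []) ^ n) = matC R.x (powC (evW (witW.getD k [])) n) := fun k hk n => by
    rw [map_pow, R.A_ev _ (List.all_eq_true.mp hw _ (by simp [hlen, hk])), ← matC_pow _ R.hx]
  have hone : ∀ k < 3, ∀ n, powC (evW (witW.getD k [])) n = oneC → R.ev (witW.getD k []) ^ n = 1 := fun k hk n h =>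
    R.inj (by rw [hA k hk, h, matC_one, map_one])
  have hne : ∀ k < 3, ∀ n, powC (evW (witW.getD k [])) (n + 1) ≠ oneC → ¬ orderOf (R.ev (witW.getD k [])) ∣ n + 1 := by
    intro k hk n h hd
    refine h (matC_inj R.x R.hx ?_ (by decide) ?_)
    · refine Nat.lt_pow_two_of_testBit _ fun b hb => ?_
      rw [powC]
      obtain ⟨q, l, hl, rfl⟩ : ∃ q l, l < 24 ∧ b = 24 * q + l :=
        ⟨b / 24, b % 24, Nat.mod_lt _ (by norm_num), (Nat.div_add_mod b 24).symm⟩
      rw [mulC, testBit_packC _ (by
        intro d hd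
        simp only [List.mem_cons, List.not_mem_nil, or_false] at hd
        rcases hd with rfl | rfl | rfl | rfl | rfl | rfl | rfl | rfl <;> exact applyC_lt _ _) q l hl,
        List.getD_eq_default]
      · exact Nat.zero_testBit l
      · simp only [List.length_cons, List.length_nil]; omega
    · rw [← hA k hk, orderOf_dvd_iff_pow_eq_one.mp hd, map_one, matC_one]
  have key : ∀ (k : ℕ) (hk : k < 3) (n : ℕ), orderOf (R.ev (witW.getD k [])) ∣ n →
      (∀ p ∈ n.primeFactors, ¬ orderOf (R.ev (witW.getD k [])) ∣ n / p) → ∀ d, d ∣ n → 0 < n → ∃ g : G, orderOf g = d := by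
    intro k hk n hd hp d hdn hn
    have ho : orderOf (R.ev (witW.getD k [])) = n := by
      by_contra hne'
      obtain ⟨p, hp1, hp2⟩ := Nat.exists_prime_and_dvd
        (show n / orderOf (R.ev (witW.getD k [])) ≠ 1 from fun e => hne' (Nat.eq_of_dvd_of_div_eq_one hd e))
      refine hp p (Nat.mem_primeFactors.mpr ⟨hp1, hp2.trans (Nat.div_dvd_of_dvd hd), hn.ne'⟩) ?_
      obtain ⟨c, hc⟩ := hp2
      refine ⟨c, Nat.div_eq_of_eq_mul_left hp1.pos ?_⟩
      conv_lhs => rw [← Nat.mul_div_cancel' hd, hc]
      ring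
    refine ⟨R.ev (witW.getD k []) ^ (n / d), ?_⟩
    rw [orderOf_pow_of_dvd (Nat.div_pos (Nat.le_of_dvd hn hdn) (Nat.pos_of_dvd_of_pos hdn hn)).ne'
      (by rw [ho]; exact Nat.div_dvd_of_dvd hdn), ho, Nat.div_div_self hdn hn.ne']
  have k0 := key 0 (by norm_num) 8 (orderOf_dvd_of_pow_eq_one (hone 0 (by norm_num) 8 h8)) (by
    intro p hp
    obtain rfl : p = 2 := by
      have := Nat.mem_primeFactors.mp hp
      exact (Nat.prime_dvd_prime_iff_eq this.1 Nat.prime_two).mp (this.1.dvd_of_dvd_pow (show p ∣ 2 ^ 3 from this.2.1))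
    exact hne 0 (by norm_num) 3 h8')
  have hp12 : (12 : ℕ).primeFactors = {2, 3} := by
    rw [show (12 : ℕ) = 2 ^ 2 * 3 by norm_num, Nat.primeFactors_mul (by norm_num) (by norm_num),
      Nat.primeFactors_prime_pow (by norm_num) Nat.prime_two, Nat.Prime.primeFactors (by norm_num)]
    rfl
  have hp28 : (28 : ℕ).primeFactors = {2, 7} := by
    rw [show (28 : ℕ) = 2 ^ 2 * 7 by norm_num, Nat.primeFactors_mul (by norm_num) (by norm_num),
      Nat.primeFactors_prime_pow (by norm_num) Nat.prime_two, Nat.Prime.primeFactors (by norm_num)]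
    rfl
  have k1 := key 1 (by norm_num) 12 (orderOf_dvd_of_pow_eq_one (hone 1 (by norm_num) 12 h12)) (by
    rw [hp12]
    intro p hp
    simp only [Finset.mem_insert, Finset.mem_singleton] at hp
    rcases hp with rfl | rfl
    · exact hne 1 (by norm_num) 5 h12'
    · exact hne 1 (by norm_num) 3 h12'')
  have k2 := key 2 (by norm_num) 28 (orderOf_dvd_of_pow_eq_one (hone 2 (by norm_num) 28 h28)) (by
    rw [hp28]
    intro p hp
    simp only [Finset.mem_insert, Finset.mem_singleton] at hp
    rcases hp with rfl | rfl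
    · exact hne 2 (by norm_num) 13 h28'
    · exact hne 2 (by norm_num) 3 h28'')
  intro n hn
  simp only [Finset.mem_insert, Finset.mem_singleton] at hn
  rcases hn with rfl | rfl | rfl | rfl | rfl | rfl | rfl
  · exact k0 2 (by norm_num) (by norm_num)
  · exact k0 4 (by norm_num) (by norm_num)
  · exact k1 6 (by norm_num) (by norm_num)
  · exact k0 8 (by norm_num) (by norm_num)
  · exact k1 12 (by norm_num) (by norm_num)
  · exact k2 14 (by norm_num) (by norm_num)
  · exact k2 28 (by norm_num) (by norm_num)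

/-- The module. -/
abbrev Nat8 (K : Type*) := Multiplicative (Fin 8 → K)

/-- The action on the module. -/
noncomputable def act8 {G : Type*} [Group G] (A : G →* Matrix (Fin 8) (Fin 8) K) : G →* MulAut (Nat8 K) where
  toFun g :=
    { toFun := fun v => Multiplicative.ofAdd ((A g).mulVec v.toAdd)
      invFun := fun v => Multiplicative.ofAdd ((A g⁻¹).mulVec v.toAdd)
      left_inv := fun v => by simp [Matrix.mulVec_mulVec, ← map_mul]
      right_inv := fun v => by simp [Matrix.mulVec_mulVec, ← map_mul]
      map_mul' := fun v w => by simp [Matrix.mulVec_add] }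
  map_one' := by ext v; simp
  map_mul' g h := by ext v; simp [Matrix.mulVec_mulVec]

theorem act8_apply {G : Type*} [Group G] (A : G →* Matrix (Fin 8) (Fin 8) K) (g : G) (v : Fin 8 → K) :
    act8 A g (Multiplicative.ofAdd v) = Multiplicative.ofAdd ((A g).mulVec v) := rfl

theorem spec_eq {G : Type*} [Group G] [Finite G] (R : Rep G K) (hK : Fintype.card K = 8) (F : Facts R.A) :
    Set.range (orderOf : (Nat8 K ⋊[act8 R.A] G) → ℕ) = Set.range (orderOf : G → ℕ) := by
  ext n
  constructor
  · rintro ⟨x, rfl⟩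
    set g := x.right with hg
    set v := x.left.toAdd with hv
    have hx : x = ⟨Multiplicative.ofAdd v, g⟩ := rfl
    have hpow : ∀ k : ℕ, x ^ k = ⟨Multiplicative.ofAdd (∑ i ∈ Finset.range k, (R.A g ^ i).mulVec v), g ^ k⟩ := by
      intro k
      induction k with
      | zero => simp; try rfl
      | succ k ih =>
        rw [pow_succ, ih, hx]
        apply SemidirectProduct.ext
        · rw [SemidirectProduct.mul_left, act8_apply, Finset.sum_range_succ, ofAdd_add, map_pow]
        · rw [SemidirectProduct.mul_right, pow_succ]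
    have hd : orderOf g ∣ orderOf x :=
      orderOf_map_dvd (SemidirectProduct.rightHom : (Nat8 K ⋊[act8 R.A] G) →* G) x
    have hn : x ^ orderOf g =
        SemidirectProduct.inl (Multiplicative.ofAdd (∑ i ∈ Finset.range (orderOf g), (R.A g ^ i).mulVec v)) := by
      rw [hpow, pow_orderOf_eq_one]; rfl
    rcases order_or_trace hK F g with h | h
    · have h2 : orderOf x ∣ 2 * orderOf g := by
        refine orderOf_dvd_of_pow_eq_one ?_
        rw [mul_comm, pow_mul, hn, ← map_pow, ← ofAdd_nsmul, two_nsmul,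
          show ∀ z : Fin 8 → K, z + z = 0 from fun z => funext fun i => CharTwo.add_self_eq_zero (z i),
          ofAdd_zero, map_one]
      obtain ⟨c, hc⟩ := hd
      rw [hc, mul_comm 2] at h2
      rcases (Nat.dvd_prime Nat.prime_two).mp (Nat.dvd_of_mul_dvd_mul_left (orderOf_pos g) h2) with rfl | rfl
      · exact ⟨g, by rw [hc, mul_one]⟩
      · rw [hc]
        refine exists_orders R (orderOf g * 2) ?_
        simp only [Finset.mem_insert, Finset.mem_singleton] at h ⊢
        omega
    · refine ⟨g, Nat.dvd_antisymm hd (orderOf_dvd_of_pow_eq_one ?_)⟩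
      rw [hn, ← Matrix.sum_mulVec, h, Matrix.zero_mulVec, ofAdd_zero, map_one]
  · rintro ⟨g, rfl⟩
    exact ⟨SemidirectProduct.inr g, orderOf_injective SemidirectProduct.inr SemidirectProduct.inr_injective g⟩

/-- Unboundedly large groups with the element orders of `³D₄(2)`. -/
theorem main {K : Type*} [Field K] [Fintype K] (hK : Fintype.card K = 8) (N : ℕ) :
    ∃ (H : Type) (_ : Group H) (_ : Fintype H), N < Fintype.card H ∧
      Set.range (orderOf : H → ℕ) = Set.range (orderOf : twistedD4 K 2 → ℕ) := by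
  obtain ⟨hc, ⟨R⟩⟩ := exists_rep8 (K := K) hK
  haveI := hc
  set W := Nat8 K ⋊[act8 R.A] ↥(twistedD4 K 2)
  haveI : Finite W := Finite.of_equiv _ (SemidirectProduct.equivProd).symm
  set V : Subgroup W := (SemidirectProduct.inl : Nat8 K →* W).range
  haveI : V.Normal := by
    rw [show V = (SemidirectProduct.rightHom : W →* _).ker from SemidirectProduct.range_inl_eq_ker_rightHom]
    exact MonoidHom.normal_ker _
  have hne : V ≠ ⊥ := fun e => by
    let i8 : Nat8 K →* W := SemidirectProduct.inl
    have h : i8 (Multiplicative.ofAdd (fun _ => (1 : K))) ∈ V := ⟨_, rfl⟩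
    rw [e, Subgroup.mem_bot, ← map_one i8] at h
    exact one_ne_zero (congrFun (congrArg Multiplicative.toAdd (SemidirectProduct.inl_injective h)) 0)
  have hV : ∀ y ∈ V, y ^ 2 = 1 := by
    rintro _ ⟨z, rfl⟩
    rw [← map_pow, show z ^ 2 = 1 from
      Multiplicative.toAdd.injective (funext fun i => by simp [CharTwo.two_eq_zero]), map_one]
  obtain ⟨H, hG, hF, hbig, hsp⟩ := Cfsg.Lib.FiberSpectrum.exists_large V hne Nat.prime_two hV N
  exact ⟨H, hG, hF, hbig, hsp.trans (spec_eq R hK (facts R hK (card_eq hK)))⟩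

end Cfsg.Lib.TriSpec
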