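import Cfsg.Agent.TriSpec.Data.Geo
import Cfsg.Agent.TriSpec.Data.Odd

/-! The checks on the stored data: involutions and triples. -/

set_option autoImplicit false
set_option maxRecDepth 20000

namespace Cfsg.Lib.TriSpec.Cert

open Cfsg.Lib.TriSpec.Data

theorem z_ok_0 : allR (below 819 fun i => zS.okAt i) 7 0 = true := by decide +kernel

theorem z_ok_1 : allR (below 819 fun i => zS.okAt i) 7 128 = true := by decide +kernel

theorem z_ok_2 : allR (below 819 fun i => zS.okAt i) 7 256 = true := by decide +kernel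

theorem z_ok_3 : allR (below 819 fun i => zS.okAt i) 7 384 = true := by decide +kernel

theorem z_ok_4 : allR (below 819 fun i => zS.okAt i) 7 512 = true := by decide +kernel

theorem z_ok_5 : allR (below 819 fun i => zS.okAt i) 7 640 = true := by decide +kernel

theorem z_ok_6 : allR (below 819 fun i => zS.okAt i) 7 768 = true := by decide +kernel

/-- The class of involutions. -/
theorem z_ok {i : ℕ} (hi : i < 819) : (zS.okAt i) = true := by
  have h : below 819 (fun i => zS.okAt i) i = true := by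
    rcases (show (0 ≤ i ∧ i < 0 + 2 ^ 7) ∨ (128 ≤ i ∧ i < 128 + 2 ^ 7) ∨ (256 ≤ i ∧ i < 256 + 2 ^ 7) ∨ (384 ≤ i ∧ i < 384 + 2 ^ 7) ∨ (512 ≤ i ∧ i < 512 + 2 ^ 7) ∨ (640 ≤ i ∧ i < 640 + 2 ^ 7) ∨ (768 ≤ i ∧ i < 768 + 2 ^ 7) by omega) with h | h | h | h | h | h | h
    · exact allR_spec z_ok_0 i h.1 h.2
    · exact allR_spec z_ok_1 i h.1 h.2
    · exact allR_spec z_ok_2 i h.1 h.2
    · exact allR_spec z_ok_3 i h.1 h.2
    · exact allR_spec z_ok_4 i h.1 h.2
    · exact allR_spec z_ok_5 i h.1 h.2
    · exact allR_spec z_ok_6 i h.1 h.2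
  have hb : Nat.blt i 819 = true := Nat.blt_eq.mpr hi
  simpa only [below, hb, cond_true] using h

theorem permA_ok_0 : allR (below 819 fun i => zS.okPerm (repC.getD 0 0) permA i) 8 0 = true := by decide +kernel

theorem permA_ok_1 : allR (below 819 fun i => zS.okPerm (repC.getD 0 0) permA i) 8 256 = true := by decide +kernel

theorem permA_ok_2 : allR (below 819 fun i => zS.okPerm (repC.getD 0 0) permA i) 8 512 = true := by decide +kernel

theorem permA_ok_3 : allR (below 819 fun i => zS.okPerm (repC.getD 0 0) permA i) 8 768 = true := by decide +kernel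

/-- The first permutation. -/
theorem permA_ok {i : ℕ} (hi : i < 819) : (zS.okPerm (repC.getD 0 0) permA i) = true := by
  have h : below 819 (fun i => zS.okPerm (repC.getD 0 0) permA i) i = true := by
    rcases (show (0 ≤ i ∧ i < 0 + 2 ^ 8) ∨ (256 ≤ i ∧ i < 256 + 2 ^ 8) ∨ (512 ≤ i ∧ i < 512 + 2 ^ 8) ∨ (768 ≤ i ∧ i < 768 + 2 ^ 8) by omega) with h | h | h | h
    · exact allR_spec permA_ok_0 i h.1 h.2
    · exact allR_spec permA_ok_1 i h.1 h.2
    · exact allR_spec permA_ok_2 i h.1 h.2
    · exact allR_spec permA_ok_3 i h.1 h.2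
  have hb : Nat.blt i 819 = true := Nat.blt_eq.mpr hi
  simpa only [below, hb, cond_true] using h

theorem permB_ok_0 : allR (below 819 fun i => zS.okPerm (repC.getD 1 0) permB i) 8 0 = true := by decide +kernel

theorem permB_ok_1 : allR (below 819 fun i => zS.okPerm (repC.getD 1 0) permB i) 8 256 = true := by decide +kernel

theorem permB_ok_2 : allR (below 819 fun i => zS.okPerm (repC.getD 1 0) permB i) 8 512 = true := by decide +kernel

theorem permB_ok_3 : allR (below 819 fun i => zS.okPerm (repC.getD 1 0) permB i) 8 768 = true := by decide +kernel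

/-- The second permutation. -/
theorem permB_ok {i : ℕ} (hi : i < 819) : (zS.okPerm (repC.getD 1 0) permB i) = true := by
  have h : below 819 (fun i => zS.okPerm (repC.getD 1 0) permB i) i = true := by
    rcases (show (0 ≤ i ∧ i < 0 + 2 ^ 8) ∨ (256 ≤ i ∧ i < 256 + 2 ^ 8) ∨ (512 ≤ i ∧ i < 512 + 2 ^ 8) ∨ (768 ≤ i ∧ i < 768 + 2 ^ 8) by omega) with h | h | h | h
    · exact allR_spec permB_ok_0 i h.1 h.2
    · exact allR_spec permB_ok_1 i h.1 h.2
    · exact allR_spec permB_ok_2 i h.1 h.2
    · exact allR_spec permB_ok_3 i h.1 h.2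
  have hb : Nat.blt i 819 = true := Nat.blt_eq.mpr hi
  simpa only [below, hb, cond_true] using h

theorem tri_ok_0 : allR (below 2457 fun i => TriData.okAt zS triS i) 8 0 = true := by decide +kernel

theorem tri_ok_1 : allR (below 2457 fun i => TriData.okAt zS triS i) 8 256 = true := by decide +kernel

theorem tri_ok_2 : allR (below 2457 fun i => TriData.okAt zS triS i) 8 512 = true := by decide +kernel

theorem tri_ok_3 : allR (below 2457 fun i => TriData.okAt zS triS i) 8 768 = true := by decide +kernel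

theorem tri_ok_4 : allR (below 2457 fun i => TriData.okAt zS triS i) 8 1024 = true := by decide +kernel

theorem tri_ok_5 : allR (below 2457 fun i => TriData.okAt zS triS i) 8 1280 = true := by decide +kernel

theorem tri_ok_6 : allR (below 2457 fun i => TriData.okAt zS triS i) 8 1536 = true := by decide +kernel

theorem tri_ok_7 : allR (below 2457 fun i => TriData.okAt zS triS i) 8 1792 = true := by decide +kernel

theorem tri_ok_8 : allR (below 2457 fun i => TriData.okAt zS triS i) 8 2048 = true := by decide +kernel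

theorem tri_ok_9 : allR (below 2457 fun i => TriData.okAt zS triS i) 8 2304 = true := by decide +kernel

/-- The triples. -/
theorem tri_ok {i : ℕ} (hi : i < 2457) : (TriData.okAt zS triS i) = true := by
  have h : below 2457 (fun i => TriData.okAt zS triS i) i = true := by
    rcases (show (0 ≤ i ∧ i < 0 + 2 ^ 8) ∨ (256 ≤ i ∧ i < 256 + 2 ^ 8) ∨ (512 ≤ i ∧ i < 512 + 2 ^ 8) ∨ (768 ≤ i ∧ i < 768 + 2 ^ 8) ∨ (1024 ≤ i ∧ i < 1024 + 2 ^ 8) ∨ (1280 ≤ i ∧ i < 1280 + 2 ^ 8) ∨ (1536 ≤ i ∧ i < 1536 + 2 ^ 8) ∨ (1792 ≤ i ∧ i < 1792 + 2 ^ 8) ∨ (2048 ≤ i ∧ i < 2048 + 2 ^ 8) ∨ (2304 ≤ i ∧ i < 2304 + 2 ^ 8) by omega) with h | h | h | h | h | h | h | h | h | h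
    · exact allR_spec tri_ok_0 i h.1 h.2
    · exact allR_spec tri_ok_1 i h.1 h.2
    · exact allR_spec tri_ok_2 i h.1 h.2
    · exact allR_spec tri_ok_3 i h.1 h.2
    · exact allR_spec tri_ok_4 i h.1 h.2
    · exact allR_spec tri_ok_5 i h.1 h.2
    · exact allR_spec tri_ok_6 i h.1 h.2
    · exact allR_spec tri_ok_7 i h.1 h.2
    · exact allR_spec tri_ok_8 i h.1 h.2
    · exact allR_spec tri_ok_9 i h.1 h.2
  have hb : Nat.blt i 2457 = true := Nat.blt_eq.mpr hi
  simpa only [below, hb, cond_true] using h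

theorem count_a : countR (fun i => Nat.beq (triBits permA.get (triS.tri.get i)) (triBits id (triS.tri.get i))) 2457 = 9 := by
  decide +kernel

theorem count_b : countR (fun i => Nat.beq (permB.get i) i) 819 = 9 := by decide +kernel

theorem fix_z : mulC (zS.elt.get 0) hzC = mulC hzC (zS.elt.get 0) ∧
    zS.okThree htC (triS.tri.get 0) htIm = true := by decide +kernel

end Cfsg.Lib.TriSpec.Cert
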