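import Cfsg.Agent.TriSpec.Data.Odd

/-! The checks on the stored data: odd orders. -/

set_option autoImplicit false
set_option maxRecDepth 20000

namespace Cfsg.Lib.TriSpec.Cert

open Cfsg.Lib.TriSpec.Data

theorem three_ok_0 : allR (below 81 fun i => threeS.okAt i) 7 0 = true := by decide +kernel

/-- The group of order 81. -/
theorem three_ok {i : ℕ} (hi : i < 81) : (threeS.okAt i) = true := by
  have h : below 81 (fun i => threeS.okAt i) i = true := by
    exact allR_spec three_ok_0 i (Nat.zero_le i) (lt_of_lt_of_le hi (by decide))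
  have hb : Nat.blt i 81 = true := Nat.blt_eq.mpr hi
  simpa only [below, hb, cond_true] using h

theorem three_prop_0 : allR (below 81 fun i => threeAt repC threeW (threeS.elt.get i) (threeS.cert.get i)) 7 0 = true := by decide +kernel

/-- Its elements. -/
theorem three_prop {i : ℕ} (hi : i < 81) : (threeAt repC threeW (threeS.elt.get i) (threeS.cert.get i)) = true := by
  have h : below 81 (fun i => threeAt repC threeW (threeS.elt.get i) (threeS.cert.get i)) i = true := by
    exact allR_spec three_prop_0 i (Nat.zero_le i) (lt_of_lt_of_le hi (by decide))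
  have hb : Nat.blt i 81 = true := Nat.blt_eq.mpr hi
  simpa only [below, hb, cond_true] using h

theorem seven_ok_0 : allR (below 49 fun i => sevenS.okAt i) 6 0 = true := by decide +kernel

/-- The group of order 49. -/
theorem seven_ok {i : ℕ} (hi : i < 49) : (sevenS.okAt i) = true := by
  have h : below 49 (fun i => sevenS.okAt i) i = true := by
    exact allR_spec seven_ok_0 i (Nat.zero_le i) (lt_of_lt_of_le hi (by decide))
  have hb : Nat.blt i 49 = true := Nat.blt_eq.mpr hi
  simpa only [below, hb, cond_true] using h

theorem seven_prop_0 : allR (below 49 fun i => sevenAt (sevenS.elt.get i) (sevenS.cert.get i)) 6 0 = true := by decide +kernel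

/-- Its elements. -/
theorem seven_prop {i : ℕ} (hi : i < 49) : (sevenAt (sevenS.elt.get i) (sevenS.cert.get i)) = true := by
  have h : below 49 (fun i => sevenAt (sevenS.elt.get i) (sevenS.cert.get i)) i = true := by
    exact allR_spec seven_prop_0 i (Nat.zero_le i) (lt_of_lt_of_le hi (by decide))
  have hb : Nat.blt i 49 = true := Nat.blt_eq.mpr hi
  simpa only [below, hb, cond_true] using h

theorem thirteen_ok_0 : allR (below 13 fun i => thirteenS.okAt i) 4 0 = true := by decide +kernel

/-- The group of order 13. -/
theorem thirteen_ok {i : ℕ} (hi : i < 13) : (thirteenS.okAt i) = true := by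
  have h : below 13 (fun i => thirteenS.okAt i) i = true := by
    exact allR_spec thirteen_ok_0 i (Nat.zero_le i) (lt_of_lt_of_le hi (by decide))
  have hb : Nat.blt i 13 = true := Nat.blt_eq.mpr hi
  simpa only [below, hb, cond_true] using h

theorem thirteen_prop_0 : allR (below 13 fun i => thirteenAt (thirteenS.elt.get i) (thirteenS.cert.get i)) 4 0 = true := by decide +kernel

/-- Its elements. -/
theorem thirteen_prop {i : ℕ} (hi : i < 13) : (thirteenAt (thirteenS.elt.get i) (thirteenS.cert.get i)) = true := by
  have h : below 13 (fun i => thirteenAt (thirteenS.elt.get i) (thirteenS.cert.get i)) i = true := by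
    exact allR_spec thirteen_prop_0 i (Nat.zero_le i) (lt_of_lt_of_le hi (by decide))
  have hb : Nat.blt i 13 = true := Nat.blt_eq.mpr hi
  simpa only [below, hb, cond_true] using h

theorem odd_gens : threeS.okGens = true ∧ sevenS.okGens = true ∧ thirteenS.okGens = true := by decide +kernel

theorem odd_sundry : repW.map evW = repC ∧ (repW.all fun w => w.all fun k => Nat.blt k 8) = true ∧
    evW hzW = hzC ∧ freeC hzC hzQ = true ∧ powC hzC 7 = oneC ∧ (hzW.all fun k => Nat.blt k 8) = true ∧
    evW htW = htC ∧ freeC htC htQ = true ∧ powC htC 7 = oneC ∧ (htW.all fun k => Nat.blt k 8) = true ∧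
    hzC ≠ oneC ∧ htC ≠ oneC ∧ powC (repC.getD 0 0) 3 = oneC ∧ powC (repC.getD 1 0) 3 = oneC := by decide +kernel

theorem witnesses : (witW.all fun w => w.all fun k => Nat.blt k 8) = true ∧
    powC (evW (witW.getD 0 [])) 8 = oneC ∧ powC (evW (witW.getD 0 [])) 4 ≠ oneC ∧
    powC (evW (witW.getD 1 [])) 12 = oneC ∧ powC (evW (witW.getD 1 [])) 6 ≠ oneC ∧
    powC (evW (witW.getD 1 [])) 4 ≠ oneC ∧
    powC (evW (witW.getD 2 [])) 28 = oneC ∧ powC (evW (witW.getD 2 [])) 14 ≠ oneC ∧
    powC (evW (witW.getD 2 [])) 4 ≠ oneC := by decide +kernel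

theorem gens_span : ∀ s : Fin 2, ∀ t : Fin 8,
    wordC (tripW s t) = evW (genProd s t) ∧ (genProd s t).all (fun k => Nat.blt k 8) = true := by decide +kernel

end Cfsg.Lib.TriSpec.Cert
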