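import Cfsg.Agent.TriSpec.Data.Two

/-! The checks on the stored data: order 4096. -/

set_option autoImplicit false
set_option maxRecDepth 20000

namespace Cfsg.Lib.TriSpec.Cert

open Cfsg.Lib.TriSpec.Data

theorem two_ok_0 : allR (below 4096 fun i => twoS.okAt i) 8 0 = true := by decide +kernel

theorem two_ok_1 : allR (below 4096 fun i => twoS.okAt i) 8 256 = true := by decide +kernel

theorem two_ok_2 : allR (below 4096 fun i => twoS.okAt i) 8 512 = true := by decide +kernel

theorem two_ok_3 : allR (below 4096 fun i => twoS.okAt i) 8 768 = true := by decide +kernel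

theorem two_ok_4 : allR (below 4096 fun i => twoS.okAt i) 8 1024 = true := by decide +kernel

theorem two_ok_5 : allR (below 4096 fun i => twoS.okAt i) 8 1280 = true := by decide +kernel

theorem two_ok_6 : allR (below 4096 fun i => twoS.okAt i) 8 1536 = true := by decide +kernel

theorem two_ok_7 : allR (below 4096 fun i => twoS.okAt i) 8 1792 = true := by decide +kernel

theorem two_ok_8 : allR (below 4096 fun i => twoS.okAt i) 8 2048 = true := by decide +kernel

theorem two_ok_9 : allR (below 4096 fun i => twoS.okAt i) 8 2304 = true := by decide +kernel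

theorem two_ok_10 : allR (below 4096 fun i => twoS.okAt i) 8 2560 = true := by decide +kernel

theorem two_ok_11 : allR (below 4096 fun i => twoS.okAt i) 8 2816 = true := by decide +kernel

theorem two_ok_12 : allR (below 4096 fun i => twoS.okAt i) 8 3072 = true := by decide +kernel

theorem two_ok_13 : allR (below 4096 fun i => twoS.okAt i) 8 3328 = true := by decide +kernel

theorem two_ok_14 : allR (below 4096 fun i => twoS.okAt i) 8 3584 = true := by decide +kernel

theorem two_ok_15 : allR (below 4096 fun i => twoS.okAt i) 8 3840 = true := by decide +kernel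

/-- The group of order 4096. -/
theorem two_ok {i : ℕ} (hi : i < 4096) : (twoS.okAt i) = true := by
  have h : below 4096 (fun i => twoS.okAt i) i = true := by
    rcases (show (0 ≤ i ∧ i < 0 + 2 ^ 8) ∨ (256 ≤ i ∧ i < 256 + 2 ^ 8) ∨ (512 ≤ i ∧ i < 512 + 2 ^ 8) ∨ (768 ≤ i ∧ i < 768 + 2 ^ 8) ∨ (1024 ≤ i ∧ i < 1024 + 2 ^ 8) ∨ (1280 ≤ i ∧ i < 1280 + 2 ^ 8) ∨ (1536 ≤ i ∧ i < 1536 + 2 ^ 8) ∨ (1792 ≤ i ∧ i < 1792 + 2 ^ 8) ∨ (2048 ≤ i ∧ i < 2048 + 2 ^ 8) ∨ (2304 ≤ i ∧ i < 2304 + 2 ^ 8) ∨ (2560 ≤ i ∧ i < 2560 + 2 ^ 8) ∨ (2816 ≤ i ∧ i < 2816 + 2 ^ 8) ∨ (3072 ≤ i ∧ i < 3072 + 2 ^ 8) ∨ (3328 ≤ i ∧ i < 3328 + 2 ^ 8) ∨ (3584 ≤ i ∧ i < 3584 + 2 ^ 8) ∨ (3840 ≤ i ∧ i < 3840 + 2 ^ 8) by omega) with h | h | h | h | h | h | h | h | h | h | h | h | h | h | h | h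
    · exact allR_spec two_ok_0 i h.1 h.2
    · exact allR_spec two_ok_1 i h.1 h.2
    · exact allR_spec two_ok_2 i h.1 h.2
    · exact allR_spec two_ok_3 i h.1 h.2
    · exact allR_spec two_ok_4 i h.1 h.2
    · exact allR_spec two_ok_5 i h.1 h.2
    · exact allR_spec two_ok_6 i h.1 h.2
    · exact allR_spec two_ok_7 i h.1 h.2
    · exact allR_spec two_ok_8 i h.1 h.2
    · exact allR_spec two_ok_9 i h.1 h.2
    · exact allR_spec two_ok_10 i h.1 h.2
    · exact allR_spec two_ok_11 i h.1 h.2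
    · exact allR_spec two_ok_12 i h.1 h.2
    · exact allR_spec two_ok_13 i h.1 h.2
    · exact allR_spec two_ok_14 i h.1 h.2
    · exact allR_spec two_ok_15 i h.1 h.2
  have hb : Nat.blt i 4096 = true := Nat.blt_eq.mpr hi
  simpa only [below, hb, cond_true] using h

theorem two_prop_0 : allR (below 4096 fun i => twoAt (twoS.elt.get i) (twoS.cert.get i)) 8 0 = true := by decide +kernel

theorem two_prop_1 : allR (below 4096 fun i => twoAt (twoS.elt.get i) (twoS.cert.get i)) 8 256 = true := by decide +kernel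

theorem two_prop_2 : allR (below 4096 fun i => twoAt (twoS.elt.get i) (twoS.cert.get i)) 8 512 = true := by decide +kernel

theorem two_prop_3 : allR (below 4096 fun i => twoAt (twoS.elt.get i) (twoS.cert.get i)) 8 768 = true := by decide +kernel

theorem two_prop_4 : allR (below 4096 fun i => twoAt (twoS.elt.get i) (twoS.cert.get i)) 8 1024 = true := by decide +kernel

theorem two_prop_5 : allR (below 4096 fun i => twoAt (twoS.elt.get i) (twoS.cert.get i)) 8 1280 = true := by decide +kernel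

theorem two_prop_6 : allR (below 4096 fun i => twoAt (twoS.elt.get i) (twoS.cert.get i)) 8 1536 = true := by decide +kernel

theorem two_prop_7 : allR (below 4096 fun i => twoAt (twoS.elt.get i) (twoS.cert.get i)) 8 1792 = true := by decide +kernel

theorem two_prop_8 : allR (below 4096 fun i => twoAt (twoS.elt.get i) (twoS.cert.get i)) 8 2048 = true := by decide +kernel

theorem two_prop_9 : allR (below 4096 fun i => twoAt (twoS.elt.get i) (twoS.cert.get i)) 8 2304 = true := by decide +kernel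

theorem two_prop_10 : allR (below 4096 fun i => twoAt (twoS.elt.get i) (twoS.cert.get i)) 8 2560 = true := by decide +kernel

theorem two_prop_11 : allR (below 4096 fun i => twoAt (twoS.elt.get i) (twoS.cert.get i)) 8 2816 = true := by decide +kernel

theorem two_prop_12 : allR (below 4096 fun i => twoAt (twoS.elt.get i) (twoS.cert.get i)) 8 3072 = true := by decide +kernel

theorem two_prop_13 : allR (below 4096 fun i => twoAt (twoS.elt.get i) (twoS.cert.get i)) 8 3328 = true := by decide +kernel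

theorem two_prop_14 : allR (below 4096 fun i => twoAt (twoS.elt.get i) (twoS.cert.get i)) 8 3584 = true := by decide +kernel

theorem two_prop_15 : allR (below 4096 fun i => twoAt (twoS.elt.get i) (twoS.cert.get i)) 8 3840 = true := by decide +kernel

/-- Its elements. -/
theorem two_prop {i : ℕ} (hi : i < 4096) : (twoAt (twoS.elt.get i) (twoS.cert.get i)) = true := by
  have h : below 4096 (fun i => twoAt (twoS.elt.get i) (twoS.cert.get i)) i = true := by
    rcases (show (0 ≤ i ∧ i < 0 + 2 ^ 8) ∨ (256 ≤ i ∧ i < 256 + 2 ^ 8) ∨ (512 ≤ i ∧ i < 512 + 2 ^ 8) ∨ (768 ≤ i ∧ i < 768 + 2 ^ 8) ∨ (1024 ≤ i ∧ i < 1024 + 2 ^ 8) ∨ (1280 ≤ i ∧ i < 1280 + 2 ^ 8) ∨ (1536 ≤ i ∧ i < 1536 + 2 ^ 8) ∨ (1792 ≤ i ∧ i < 1792 + 2 ^ 8) ∨ (2048 ≤ i ∧ i < 2048 + 2 ^ 8) ∨ (2304 ≤ i ∧ i < 2304 + 2 ^ 8) ∨ (2560 ≤ i ∧ i < 2560 + 2 ^ 8) ∨ (2816 ≤ i ∧ i < 2816 + 2 ^ 8) ∨ (3072 ≤ i ∧ i < 3072 + 2 ^ 8) ∨ (3328 ≤ i ∧ i < 3328 + 2 ^ 8) ∨ (3584 ≤ i ∧ i < 3584 + 2 ^ 8) ∨ (3840 ≤ i ∧ i < 3840 + 2 ^ 8) by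 omega) with h | h | h | h | h | h | h | h | h | h | h | h | h | h | h | h
    · exact allR_spec two_prop_0 i h.1 h.2
    · exact allR_spec two_prop_1 i h.1 h.2
    · exact allR_spec two_prop_2 i h.1 h.2
    · exact allR_spec two_prop_3 i h.1 h.2
    · exact allR_spec two_prop_4 i h.1 h.2
    · exact allR_spec two_prop_5 i h.1 h.2
    · exact allR_spec two_prop_6 i h.1 h.2
    · exact allR_spec two_prop_7 i h.1 h.2
    · exact allR_spec two_prop_8 i h.1 h.2
    · exact allR_spec two_prop_9 i h.1 h.2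
    · exact allR_spec two_prop_10 i h.1 h.2
    · exact allR_spec two_prop_11 i h.1 h.2
    · exact allR_spec two_prop_12 i h.1 h.2
    · exact allR_spec two_prop_13 i h.1 h.2
    · exact allR_spec two_prop_14 i h.1 h.2
    · exact allR_spec two_prop_15 i h.1 h.2
  have hb : Nat.blt i 4096 = true := Nat.blt_eq.mpr hi
  simpa only [below, hb, cond_true] using h

theorem two_gens : twoS.okGens = true := by decide +kernel

end Cfsg.Lib.TriSpec.Cert
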