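import Cfsg.Agent.TriSpec.Gens

/-!
The checks made on the stored lists.
-/

set_option autoImplicit false

namespace Cfsg.Lib.TriSpec

/-- A list stored as a tree; a node records the size of its left branch. -/
inductive Tr where
  /-- a leaf -/
  | lf (n : ℕ)
  /-- a node -/
  | nd (k : ℕ) (l r : Tr)

/-- An entry. -/
def Tr.get : Tr → ℕ → ℕ
  | .lf n, _ => n
  | .nd k l r, i => bif Nat.blt i k then l.get i else r.get (i - k)

/-- A check on `2 ^ d` consecutive numbers. -/
def allR (f : ℕ → Bool) : ℕ → ℕ → Bool
  | 0, b => f b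
  | d + 1, b => allR f d b && allR f d (b + 2 ^ d)

theorem allR_spec {f : ℕ → Bool} : ∀ {d b : ℕ}, allR f d b = true → ∀ i, b ≤ i → i < b + 2 ^ d → f i = true
  | 0, b, h, i, h1, h2 => by
    obtain rfl : i = b := by rw [pow_zero] at h2; omega
    exact h
  | d + 1, b, h, i, h1, h2 => by
    simp only [allR, Bool.and_eq_true] at h
    rw [pow_succ] at h2
    by_cases hi : i < b + 2 ^ d
    · exact allR_spec h.1 i h1 hi
    · exact allR_spec h.2 i (by omega) (by omega)

/-- Lower than a bound implies a check. -/
def below (n : ℕ) (f : ℕ → Bool) (i : ℕ) : Bool := bif Nat.blt i n then f i else true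

/-- The number of indices below a bound with a property. -/
def countR (f : ℕ → Bool) : ℕ → ℕ
  | 0 => 0
  | n + 1 => (bif f n then 1 else 0) + countR f n

/-- The product of coded generators along a word. -/
def evW : List ℕ → ℕ
  | [] => oneC
  | k :: w => mulC (wordC (genW k)) (evW w)

/-- A list of matrices with multiplication table, parents and sorting. -/
structure SubData where
  /-- length -/
  n : ℕ
  /-- generators, as words in the eight generators -/
  gens : List (List ℕ)
  /-- generator codes -/
  gcode : List ℕ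
  /-- elements -/
  elt : Tr
  /-- packed table -/
  tab : Tr
  /-- parent and generator -/
  par : Tr
  /-- increasing order -/
  srt : Tr
  /-- certificates -/
  cert : Tr

/-- A product by the table. -/
def SubData.step (D : SubData) (i k : ℕ) : ℕ := Nat.land (Nat.shiftRight (D.tab.get i) (12 * k)) 4095

/-- The check at one index: range, closure, connection, order. -/
def SubData.okAt (D : SubData) (i : ℕ) : Bool :=
  Nat.blt (D.elt.get i) (2 ^ 192) &&
  ((List.range D.gcode.length).all fun k => Nat.blt (D.step i k) D.n &&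
    Nat.beq (mulC (D.elt.get i) (D.gcode.getD k 0)) (D.elt.get (D.step i k))) &&
  (bif Nat.beq i 0 then Nat.beq (D.elt.get i) oneC else
    Nat.blt (Nat.div (D.par.get i) 8) i && Nat.blt (Nat.mod (D.par.get i) 8) D.gcode.length &&
      Nat.beq (D.step (Nat.div (D.par.get i) 8) (Nat.mod (D.par.get i) 8)) i) &&
  Nat.blt (D.srt.get i) D.n &&
  (bif Nat.blt (i + 1) D.n then Nat.blt (D.elt.get (D.srt.get i)) (D.elt.get (D.srt.get (i + 1))) else true)

/-- The generators of a stored list. -/
def SubData.okGens (D : SubData) : Bool :=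
  decide (D.gens.map evW = D.gcode) && (D.gens.all fun w => w.all fun k => Nat.blt k 8)

/-- A certificate that no non-zero vector is killed. -/
def freeC (A q : ℕ) : Bool := Nat.beq (mulC q (Nat.xor A oneC)) oneC

/-- A certificate that a fixed vector is determined by two coordinates. -/
def twoC (A c : ℕ) : Bool :=
  let P := mulC (Nat.div c 64) (Nat.xor A oneC)
  (List.range 8).all fun j =>
    Nat.beq j (Nat.mod (Nat.div c 8) 8) || Nat.beq j (Nat.mod c 8) || Nat.beq (colC P j) (2 ^ j)

/-- The check on an element of two power order. -/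
def twoAt (A c : ℕ) : Bool :=
  let N := Nat.xor A oneC
  let N2 := mulC N N
  let N3 := mulC N2 N
  Nat.beq (mulC (mulC N2 N2) N3) 0 && (Nat.beq N3 0 || twoC A c)

/-- The check on an element of seven power order. -/
def sevenAt (A c : ℕ) : Bool := Nat.beq A oneC || (Nat.beq (powC A 7) oneC && twoC A c)

/-- The check on an element of order thirteen. -/
def thirteenAt (A c : ℕ) : Bool := Nat.beq A oneC || freeC A c

/-- The check on an element of three power order; `R` are the two representatives and `W` the conjugating words. -/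
def threeAt (R : List ℕ) (W : List (List ℕ)) (A c : ℕ) : Bool :=
  Nat.beq (powC A 9) oneC &&
  (bif Nat.beq (powC A 3) oneC then
    Nat.beq A oneC ||
      (let w := W.getD (Nat.div c 2) []
       let m := evW w
       let t := R.getD (Nat.mod c 2) 0
       (w.all fun k => Nat.blt k 8) &&
        (Nat.beq (mulC m A) (mulC t m) || Nat.beq (mulC m (mulC A A)) (mulC t m)))
  else freeC A c)

/-- A set of matrices closed under conjugation by the generators. -/
structure ConjData where
  /-- size -/
  n : ℕ
  /-- elements -/
  elt : Tr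
  /-- packed table -/
  tab : Tr
  /-- parents -/
  par : Tr
  /-- increasing order -/
  srt : Tr

/-- The image of an index. -/
def ConjData.step (D : ConjData) (i k : ℕ) : ℕ := Nat.land (Nat.shiftRight (D.tab.get i) (12 * k)) 4095

/-- The check at one index. -/
def ConjData.okAt (D : ConjData) (i : ℕ) : Bool :=
  Nat.blt (D.elt.get i) (2 ^ 192) &&
  ((List.range 8).all fun k => Nat.blt (D.step i k) D.n &&
    Nat.beq (mulC (D.elt.get (D.step i k)) (wordC (genW k))) (mulC (wordC (genW k)) (D.elt.get i))) &&
  (bif Nat.beq i 0 then Nat.beq (D.elt.get i) (wordC (genW 0)) else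
    Nat.blt (Nat.div (D.par.get i) 8) i &&
      Nat.beq (D.step (Nat.div (D.par.get i) 8) (Nat.mod (D.par.get i) 8)) i) &&
  Nat.blt (D.srt.get i) D.n &&
  (bif Nat.blt (i + 1) D.n then Nat.blt (D.elt.get (D.srt.get i)) (D.elt.get (D.srt.get (i + 1))) else true)

/-- A permutation of the indices induced by a matrix. -/
def ConjData.okPerm (D : ConjData) (t : ℕ) (p : Tr) (i : ℕ) : Bool :=
  Nat.blt (p.get i) D.n && Nat.beq (mulC (D.elt.get (p.get i)) t) (mulC t (D.elt.get i))

/-- A set of three indices as bits. -/
def bits3 (a b c : ℕ) : ℕ :=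
  Nat.lor (Nat.shiftLeft 1 a) (Nat.lor (Nat.shiftLeft 1 b) (Nat.shiftLeft 1 c))

/-- The bits of a stored triple after a map. -/
def triBits (f : ℕ → ℕ) (v : ℕ) : ℕ :=
  bits3 (f (Nat.div v 1048576)) (f (Nat.mod (Nat.div v 1024) 1024)) (f (Nat.mod v 1024))

/-- A family of triples closed under the generators. -/
structure TriData where
  /-- size -/
  n : ℕ
  /-- triples -/
  tri : Tr
  /-- packed table -/
  tab : Tr
  /-- parents -/
  par : Tr
  /-- increasing order -/
  srt : Tr

/-- The image of an index. -/
def TriData.step (T : TriData) (i k : ℕ) : ℕ := Nat.land (Nat.shiftRight (T.tab.get i) (12 * k)) 4095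

/-- The check at one index. -/
def TriData.okAt (D : ConjData) (T : TriData) (i : ℕ) : Bool :=
  (let v := T.tri.get i
   Nat.blt (Nat.div v 1048576) D.n && Nat.blt (Nat.mod (Nat.div v 1024) 1024) D.n && Nat.blt (Nat.mod v 1024) D.n) &&
  ((List.range 8).all fun k => Nat.blt (T.step i k) T.n &&
    Nat.beq (triBits (fun a => D.step a k) (T.tri.get i)) (triBits id (T.tri.get (T.step i k)))) &&
  (Nat.beq i 0 || (Nat.blt (Nat.div (T.par.get i) 8) i &&
      Nat.beq (T.step (Nat.div (T.par.get i) 8) (Nat.mod (T.par.get i) 8)) i)) &&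
  Nat.blt (T.srt.get i) T.n &&
  (bif Nat.blt (i + 1) T.n then Nat.blt (triBits id (T.tri.get (T.srt.get i))) (triBits id (T.tri.get (T.srt.get (i + 1)))) else true)

/-- A matrix commutes with a stored triple setwise. -/
def ConjData.okThree (D : ConjData) (h v : ℕ) (im : List ℕ) : Bool :=
  let e := fun a b => Nat.blt a D.n && Nat.beq (mulC (D.elt.get a) h) (mulC h (D.elt.get b))
  e (im.getD 0 0) (Nat.div v 1048576) && e (im.getD 1 0) (Nat.mod (Nat.div v 1024) 1024) &&
    e (im.getD 2 0) (Nat.mod v 1024) &&
    Nat.beq (bits3 (im.getD 0 0) (im.getD 1 0) (im.getD 2 0)) (triBits id v)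

end Cfsg.Lib.TriSpec
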