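import Mathlib.LinearAlgebra.Matrix.Notation
import Mathlib.LinearAlgebra.Matrix.GeneralLinearGroup.Defs
import Mathlib.Tactic

/-!
Eight by eight matrices over a field with a root of `X³ + X + 1` in characteristic two, coded by natural numbers:
a vector is twenty-four bits (three planes of eight coordinates), a matrix eight such columns.
-/

set_option autoImplicit false
set_option linter.unusedSectionVars false
set_option maxRecDepth 10000

namespace Cfsg.Lib.TriSpec

/-- Multiplication of a coded vector by the root. -/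
def xmulC (v : ℕ) : ℕ :=
  Nat.xor (Nat.land (Nat.shiftRight v 16) 255)
    (Nat.xor (Nat.shiftLeft (Nat.xor (Nat.land v 255) (Nat.land (Nat.shiftRight v 16) 255)) 8)
      (Nat.shiftLeft (Nat.land (Nat.shiftRight v 8) 255) 16))

/-- The `j`th column. -/
def colC (A j : ℕ) : ℕ := Nat.land (Nat.shiftRight A (24 * j)) 16777215

/-- One term of a plane. -/
def termC (A v j : ℕ) : ℕ := Nat.mul (Nat.land (Nat.shiftRight v j) 1) (colC A j)

/-- The combination of the columns with the bits of one plane. -/
def planeC (A v : ℕ) : ℕ :=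
  Nat.xor (termC A v 0) (Nat.xor (termC A v 1) (Nat.xor (termC A v 2) (Nat.xor (termC A v 3)
    (Nat.xor (termC A v 4) (Nat.xor (termC A v 5) (Nat.xor (termC A v 6) (termC A v 7)))))))

/-- The image of a vector. -/
def applyC (A v : ℕ) : ℕ :=
  Nat.xor (planeC A (Nat.land v 255))
    (xmulC (Nat.xor (planeC A (Nat.land (Nat.shiftRight v 8) 255))
      (xmulC (planeC A (Nat.land (Nat.shiftRight v 16) 255)))))

/-- The matrix with given columns. -/
def packC : List ℕ → ℕ
  | [] => 0
  | c :: l => c + Nat.shiftLeft (packC l) 24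

/-- The product. -/
def mulC (A B : ℕ) : ℕ :=
  packC [applyC A (colC B 0), applyC A (colC B 1), applyC A (colC B 2), applyC A (colC B 3),
    applyC A (colC B 4), applyC A (colC B 5), applyC A (colC B 6), applyC A (colC B 7)]

/-- The identity. -/
def oneC : ℕ := packC [1, 2, 4, 8, 16, 32, 64, 128]

/-- A power. -/
def powC (A : ℕ) : ℕ → ℕ
  | 0 => oneC
  | n + 1 => mulC (powC A n) A

section Sem

variable {K : Type*} [Field K] (x : K)

/-- A bit in the field. -/
def bitK (v k : ℕ) : K := if v.testBit k then 1 else 0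

/-- The vector of a code. -/
def vecC (v : ℕ) : Fin 8 → K := fun i =>
  bitK v i + bitK v (8 + i) * x + bitK v (16 + i) * x ^ 2

/-- The matrix of a code. -/
def matC (A : ℕ) : Matrix (Fin 8) (Fin 8) K := Matrix.of fun i j => vecC x (colC A j) i

variable [CharP K 2]

theorem bitK_xor (a b k : ℕ) : (bitK (Nat.xor a b) k : K) = bitK a k + bitK b k := by
  simp only [bitK, show Nat.xor a b = a ^^^ b from rfl, Nat.testBit_xor]
  cases a.testBit k <;> cases b.testBit k <;> simp [CharTwo.add_self_eq_zero]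

theorem vecC_xor (a b : ℕ) : vecC x (Nat.xor a b) = vecC x a + vecC x b := by
  funext i
  simp only [vecC, Pi.add_apply, bitK_xor]
  ring

theorem vecC_zero : vecC x 0 = 0 := by
  funext i; simp [vecC, bitK]

theorem testBit_xmulC (v : ℕ) (i : Fin 8) :
    (xmulC v).testBit i = v.testBit (16 + i) ∧
    (xmulC v).testBit (8 + i) = xor (v.testBit i) (v.testBit (16 + i)) ∧
    (xmulC v).testBit (16 + i) = v.testBit (8 + i) := by
  have h255 : ∀ k, (255 : ℕ).testBit k = decide (k < 8) := fun k => by
    rw [show (255 : ℕ) = 2 ^ 8 - 1 from rfl, Nat.testBit_two_pow_sub_one]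
  have e : xmulC v = (((v >>> 16) &&& 255) ^^^ ((((v &&& 255) ^^^ ((v >>> 16) &&& 255)) <<< 8) ^^^
      (((v >>> 8) &&& 255) <<< 16))) := rfl
  rw [e]
  simp only [Nat.testBit_xor, Nat.testBit_and, Nat.testBit_shiftLeft, Nat.testBit_shiftRight, h255]
  fin_cases i <;> simp

theorem vecC_xmul (hx : x ^ 3 = x + 1) (v : ℕ) : vecC x (xmulC v) = x • vecC x v := by
  funext i
  obtain ⟨h0, h1, h2⟩ := testBit_xmulC v i
  simp only [vecC, bitK, h0, h1, h2, Pi.smul_apply, smul_eq_mul]
  have h22 : (2 : K) = 0 := CharTwo.two_eq_zero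
  cases v.testBit i <;> cases v.testBit (8 + i) <;> cases v.testBit (16 + i) <;>
    simp <;> ring_nf <;> (try simp [hx, h22]) <;> (try ring_nf) <;> (try simp [h22])

theorem vecC_term (A v : ℕ) (j : Fin 8) : vecC x (termC A v j) = (bitK v j : K) • vecC x (colC A j) := by
  have e : termC A v j = ((v >>> (j : ℕ)) % 2) * colC A j := by
    rw [termC, show Nat.land (Nat.shiftRight v j) 1 = (v >>> (j : ℕ)) &&& 1 from rfl, Nat.and_one_is_mod]
    rfl
  rw [e, bitK, Nat.testBit_eq_decide_div_mod_eq, Nat.shiftRight_eq_div_pow]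
  rcases Nat.mod_two_eq_zero_or_one (v / 2 ^ (j : ℕ)) with h | h <;> simp [h, vecC_zero]

theorem vecC_plane (A v : ℕ) :
    vecC x (planeC A v) = ∑ j : Fin 8, (bitK v j : K) • vecC x (colC A j) := by
  rw [planeC, vecC_xor, vecC_xor, vecC_xor, vecC_xor, vecC_xor, vecC_xor, vecC_xor, Fin.sum_univ_eight]
  simp only [← vecC_term]
  simp only [add_assoc]
  rfl

theorem bitK_plane (v : ℕ) (j : Fin 8) :
    (bitK (Nat.land v 255) j : K) = bitK v j ∧
    (bitK (Nat.land (Nat.shiftRight v 8) 255) j : K) = bitK v (8 + j) ∧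
    (bitK (Nat.land (Nat.shiftRight v 16) 255) j : K) = bitK v (16 + j) := by
  have h255 : (255 : ℕ).testBit j = true := by fin_cases j <;> decide
  refine ⟨?_, ?_, ?_⟩ <;>
    simp only [bitK, Nat.testBit_and, Nat.testBit_shiftRight, h255, Bool.and_true, show ∀ a b,
      Nat.land a b = a &&& b from fun _ _ => rfl, show ∀ a b, Nat.shiftRight a b = a >>> b from fun _ _ => rfl]

theorem vecC_apply (hx : x ^ 3 = x + 1) (A v : ℕ) :
    vecC x (applyC A v) = (matC x A).mulVec (vecC x v) := by
  rw [applyC, vecC_xor, vecC_xmul x hx, vecC_xor, vecC_xmul x hx, vecC_plane, vecC_plane, vecC_plane]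
  funext i
  simp only [Pi.add_apply, Pi.smul_apply, Finset.sum_apply, smul_eq_mul, Matrix.mulVec, dotProduct, matC,
    Matrix.of_apply, (bitK_plane v _).1, (bitK_plane v _).2.1, (bitK_plane v _).2.2, Finset.mul_sum,
    ← Finset.sum_add_distrib]
  refine Finset.sum_congr rfl fun j _ => ?_
  simp only [vecC]
  ring

theorem packC_cons (c : ℕ) (l : List ℕ) : packC (c :: l) = c + packC l <<< 24 := by
  rfl

theorem testBit_packC (l : List ℕ) (h : ∀ c ∈ l, c < 2 ^ 24) (j k : ℕ) (hk : k < 24) :
    (packC l).testBit (24 * j + k) = (l.getD j 0).testBit k := by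
  induction l generalizing j with
  | nil => rw [show packC [] = 0 from rfl]; simp
  | cons c l ih =>
    have hc : c < 2 ^ 24 := h c List.mem_cons_self
    rw [packC_cons, Nat.shiftLeft_eq, Nat.mul_comm, Nat.add_comm, Nat.testBit_two_pow_mul_add (packC l) hc]
    cases j with
    | zero => rw [if_pos (by omega)]; simp
    | succ j =>
      rw [if_neg (by omega), show 24 * (j + 1) + k - 24 = 24 * j + k by omega,
        ih (fun d hd => h d (List.mem_cons_of_mem _ hd)) j, List.getD_cons_succ]

theorem testBit_colC (A j k : ℕ) : (colC A j).testBit k = (decide (k < 24) && A.testBit (24 * j + k)) := by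
  rw [colC, show Nat.land (Nat.shiftRight A (24 * j)) 16777215 = (A >>> (24 * j)) &&& 16777215 from rfl,
    Nat.testBit_and, Nat.testBit_shiftRight, show (16777215 : ℕ) = 2 ^ 24 - 1 from rfl,
    Nat.testBit_two_pow_sub_one, Bool.and_comm]

theorem colC_lt (A j : ℕ) : colC A j < 2 ^ 24 := by
  refine Nat.lt_pow_two_of_testBit _ fun k hk => ?_
  rw [testBit_colC, decide_eq_false (by omega), Bool.false_and]

theorem colC_packC (l : List ℕ) (h : ∀ c ∈ l, c < 2 ^ 24) (j : ℕ) : colC (packC l) j = l.getD j 0 := by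
  refine Nat.eq_of_testBit_eq fun k => ?_
  rw [testBit_colC]
  by_cases hk : k < 24
  · rw [decide_eq_true hk, Bool.true_and, testBit_packC l h j k hk]
  · rw [decide_eq_false hk, Bool.false_and]
    refine (Nat.testBit_lt_two_pow (lt_of_lt_of_le ?_ (Nat.pow_le_pow_right (by norm_num) (not_lt.mp hk)))).symm
    rw [List.getD_eq_getElem?_getD]
    cases e : l[j]? with
    | none => norm_num
    | some c => exact h c (List.mem_of_getElem? e)

theorem xmulC_lt (v : ℕ) : xmulC v < 2 ^ 24 := by
  refine Nat.lt_pow_two_of_testBit _ fun k hk => ?_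
  have h255 : ∀ k, (255 : ℕ).testBit k = decide (k < 8) := fun k => by
    rw [show (255 : ℕ) = 2 ^ 8 - 1 from rfl, Nat.testBit_two_pow_sub_one]
  show (((v >>> 16) &&& 255) ^^^ ((((v &&& 255) ^^^ ((v >>> 16) &&& 255)) <<< 8) ^^^
      (((v >>> 8) &&& 255) <<< 16))).testBit k = false
  simp only [Nat.testBit_xor, Nat.testBit_and, Nat.testBit_shiftLeft, Nat.testBit_shiftRight, h255]
  simp [show ¬ k < 8 by omega, show ¬ k - 8 < 8 by omega, show ¬ k - 16 < 8 by omega]

theorem applyC_lt (A v : ℕ) : applyC A v < 2 ^ 24 := by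
  have ht : ∀ v j, termC A v j < 2 ^ 24 := fun v j => by
    rw [termC, show Nat.land (Nat.shiftRight v j) 1 = (v >>> j) &&& 1 from rfl, Nat.and_one_is_mod]
    have := colC_lt A j
    rcases Nat.mod_two_eq_zero_or_one (v >>> j) with h | h <;> rw [h] <;>
      first
      | exact lt_of_eq_of_lt (Nat.zero_mul _) (Nat.two_pow_pos 24)
      | exact lt_of_eq_of_lt (Nat.one_mul _) this
  have hp : ∀ v, planeC A v < 2 ^ 24 := fun v =>
    Nat.xor_lt_two_pow (ht v 0) (Nat.xor_lt_two_pow (ht v 1) (Nat.xor_lt_two_pow (ht v 2)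
      (Nat.xor_lt_two_pow (ht v 3) (Nat.xor_lt_two_pow (ht v 4) (Nat.xor_lt_two_pow (ht v 5)
        (Nat.xor_lt_two_pow (ht v 6) (ht v 7)))))))
  exact Nat.xor_lt_two_pow (hp _) (xmulC_lt _)

theorem matC_mul (hx : x ^ 3 = x + 1) (A B : ℕ) : matC x (mulC A B) = matC x A * matC x B := by
  ext i j
  have h : ∀ c ∈ [applyC A (colC B 0), applyC A (colC B 1), applyC A (colC B 2), applyC A (colC B 3),
      applyC A (colC B 4), applyC A (colC B 5), applyC A (colC B 6), applyC A (colC B 7)], c < 2 ^ 24 := by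
    intro c hc
    simp only [List.mem_cons, List.not_mem_nil, or_false] at hc
    rcases hc with rfl | rfl | rfl | rfl | rfl | rfl | rfl | rfl <;> exact applyC_lt _ _
  have e : colC (mulC A B) j = applyC A (colC B j) := by
    rw [mulC, colC_packC _ h]
    fin_cases j <;> rfl
  rw [matC, Matrix.of_apply, e, vecC_apply x hx]
  simp [Matrix.mul_apply, Matrix.mulVec, dotProduct, matC]

theorem matC_one : matC x oneC = 1 := by
  ext i j
  rw [matC, Matrix.of_apply, oneC, colC_packC _ (by decide)]
  fin_cases i <;> fin_cases j <;> simp [vecC, bitK, Nat.testBit_eq_decide_div_mod_eq]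

theorem matC_pow (hx : x ^ 3 = x + 1) (A n : ℕ) : matC x (powC A n) = matC x A ^ n := by
  induction n with
  | zero => rw [powC, pow_zero, matC_one]
  | succ n ih => rw [powC, matC_mul x hx, ih, pow_succ]

theorem bits_zero (hx : x ^ 3 = x + 1) (a b c : Bool)
    (h : (if a then 1 else 0 : K) + (if b then 1 else 0) * x + (if c then 1 else 0) * x ^ 2 = 0) :
    a = false ∧ b = false ∧ c = false := by
  have h2 : (2 : K) = 0 := CharTwo.two_eq_zero
  cases a <;> cases b <;> cases c <;> simp at h <;> simp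
  · exact one_ne_zero (α := K) (by subst h; simpa using hx.symm)
  · exact one_ne_zero (α := K) (by subst h; simpa using hx.symm)
  · exact one_ne_zero (α := K) (by linear_combination (x - 1) * h - hx)
  · exact one_ne_zero (α := K) (by linear_combination x * h - hx - x * h2)
  · exact one_ne_zero (α := K) (by linear_combination (x ^ 2 - x) * h - hx)
  · exact one_ne_zero (α := K) (by linear_combination (2 - x ^ 2) * h + (1 + x) * hx)

theorem matC_inj (hx : x ^ 3 = x + 1) {A B : ℕ} (hA : A < 2 ^ 192) (hB : B < 2 ^ 192)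
    (h : matC x A = matC x B) : A = B := by
  refine Nat.eq_of_testBit_eq fun k => ?_
  by_cases hk : k < 192
  · have key : ∀ i j : Fin 8, A.testBit (24 * j + i) = B.testBit (24 * j + i) ∧
        A.testBit (24 * j + (8 + i)) = B.testBit (24 * j + (8 + i)) ∧
        A.testBit (24 * j + (16 + i)) = B.testBit (24 * j + (16 + i)) := by
      intro i j
      have hij := congrFun (congrFun h i) j
      simp only [matC, Matrix.of_apply] at hij
      have h0 : vecC x (Nat.xor (colC A j) (colC B j)) i = 0 := by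
        rw [vecC_xor, Pi.add_apply, hij, CharTwo.add_self_eq_zero]
      obtain ⟨e1, e2, e3⟩ := bits_zero x hx _ _ _ h0
      simp only [show ∀ a b, Nat.xor a b = a ^^^ b from fun _ _ => rfl, Nat.testBit_xor, testBit_colC,
        bne_eq_false_iff_eq] at e1 e2 e3
      have hi := i.isLt
      rw [decide_eq_true (show (i : ℕ) < 24 by omega), Bool.true_and, Bool.true_and] at e1
      rw [decide_eq_true (show 8 + (i : ℕ) < 24 by omega), Bool.true_and, Bool.true_and] at e2
      rw [decide_eq_true (show 16 + (i : ℕ) < 24 by omega), Bool.true_and, Bool.true_and] at e3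
      exact ⟨e1, e2, e3⟩
    obtain ⟨e1, e2, e3⟩ := key ⟨k % 8, Nat.mod_lt _ (by norm_num)⟩ ⟨k / 24, by omega⟩
    rcases (show k % 24 / 8 = 0 ∨ k % 24 / 8 = 1 ∨ k % 24 / 8 = 2 by omega) with e | e | e
    · convert e1 using 2 <;> simp <;> omega
    · convert e2 using 2 <;> simp <;> omega
    · convert e3 using 2 <;> simp <;> omega
  · rw [Nat.testBit_lt_two_pow (lt_of_lt_of_le hA (Nat.pow_le_pow_right (by norm_num) (not_lt.mp hk))),
      Nat.testBit_lt_two_pow (lt_of_lt_of_le hB (Nat.pow_le_pow_right (by norm_num) (not_lt.mp hk)))]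

end Sem

end Cfsg.Lib.TriSpec
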