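import Cfsg.Agent.TriSpec.Code

/-!
Codes of the root elements in dimension eight and of eight generators.
-/

set_option autoImplicit false

namespace Cfsg.Lib.TriSpec

/-- A field element in one coordinate. -/
def placeC (i t : ℕ) : ℕ :=
  Nat.shiftLeft (Nat.land t 1) i + Nat.shiftLeft (Nat.land (Nat.shiftRight t 1) 1) (8 + i) +
    Nat.shiftLeft (Nat.land (Nat.shiftRight t 2) 1) (16 + i)

/-- A matrix with one entry. -/
def singleC (i j t : ℕ) : ℕ := Nat.shiftLeft (placeC i t) (24 * j)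

/-- The places of the off-diagonal entries of the root elements. -/
def rootPlaces (r : ℕ) : List (Fin 8 × Fin 8) :=
  [[(4, 1), (5, 0)], [(4, 2), (6, 0)], [(3, 0), (4, 7)], [(4, 3), (7, 0)], [(2, 0), (4, 6)], [(1, 0), (4, 5)],
    [(5, 2), (6, 1)], [(3, 1), (5, 7)], [(5, 3), (7, 1)], [(2, 1), (5, 6)], [(3, 2), (6, 7)], [(6, 3), (7, 2)],
    [(2, 7), (3, 6)], [(2, 3), (7, 6)], [(1, 2), (6, 5)], [(1, 7), (3, 5)], [(1, 3), (7, 5)], [(1, 6), (2, 5)],
    [(0, 1), (5, 4)], [(0, 2), (6, 4)], [(0, 7), (3, 4)], [(0, 3), (7, 4)], [(0, 6), (2, 4)], [(0, 5), (1, 4)]].getD r []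

/-- A root element. -/
def rootC (r t : ℕ) : ℕ :=
  (rootPlaces r).foldr (fun p acc => Nat.xor (singleC p.1 p.2 t) acc) oneC

/-- A word in root elements. -/
def wordC : List (ℕ × ℕ) → ℕ
  | [] => oneC
  | p :: w => mulC (rootC p.1 p.2) (wordC w)

/-- Squares of coded field elements. -/
def sqC (t : ℕ) : ℕ := [0, 1, 4, 5, 6, 7, 2, 3].getD t 0

/-- The words of the two orbits of length three. -/
def tripW (s t : ℕ) : List (ℕ × ℕ) :=
  if s = 0 then [(18, t), (13, sqC t), (12, sqC (sqC t))] else [(5, t), (10, sqC t), (11, sqC (sqC t))]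

/-- Eight generating words. -/
def genW (k : ℕ) : List (ℕ × ℕ) :=
  [[(14, 1)], [(9, 1)], tripW 0 1, tripW 1 1, tripW 0 2, tripW 1 2, tripW 0 4, tripW 1 4].getD k []

/-- The products of generators for a word of length three. -/
def genProd (s t : ℕ) : List ℕ :=
  (if t.testBit 0 then [2 + s] else []) ++ (if t.testBit 1 then [4 + s] else []) ++
    (if t.testBit 2 then [6 + s] else [])

end Cfsg.Lib.TriSpec
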