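import Mathlib.GroupTheory.Sylow
import Mathlib.GroupTheory.Perm.Cycle.Type
import Mathlib.GroupTheory.GroupAction.Quotient
import Mathlib.Tactic

/-!
Finite group lemmas: invariant families, fixed points of commuting elements, conjugation into Sylow subgroups.
-/

set_option autoImplicit false

namespace Cfsg.Lib.TriSpec

variable {G : Type*} [Group G] [Finite G]

/-- A submonoid of a finite group as a subgroup. -/
def ofFinMonoid (M : Submonoid G) : Subgroup G where
  toSubmonoid := M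
  inv_mem' {a} ha := by
    have e : a⁻¹ = a ^ (orderOf a - 1) := by
      rw [inv_eq_iff_mul_eq_one, ← pow_succ', Nat.sub_add_cancel (orderOf_pos a), pow_orderOf_eq_one]
    show a⁻¹ ∈ M
    rw [e]
    exact pow_mem ha _

/-- A finite generating set generates the group as a monoid. -/
theorem submonoid_eq_top (S : Set G) (hS : Subgroup.closure S = ⊤) (M : Submonoid G) (hM : S ⊆ M) (g : G) :
    g ∈ M := by
  let H : Subgroup G := ofFinMonoid M
  have : Subgroup.closure S ≤ H := (Subgroup.closure_le _).2 hM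
  exact this (hS ▸ Subgroup.mem_top g)

/-- A family closed under generators carries a permutation action. -/
theorem exists_perm {β : Type*} {m : ℕ} (f : G → β → β) (h1 : ∀ b, f 1 b = b)
    (hmul : ∀ a b c, f (a * b) c = f a (f b c)) (S : Set G) (hS : Subgroup.closure S = ⊤) (s : Fin m → β)
    (hs : Function.Injective s) (hcl : ∀ g ∈ S, ∀ i, ∃ j, f g (s i) = s j) :
    ∃ σ : G →* Equiv.Perm (Fin m), ∀ g i, f g (s i) = s (σ g i) := by
  let M : Submonoid G :=
    { carrier := {g | ∀ i, ∃ j, f g (s i) = s j}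
      one_mem' := fun i => ⟨i, h1 _⟩
      mul_mem' := fun {a b} ha hb i => by
        obtain ⟨j, hj⟩ := hb i
        obtain ⟨k, hk⟩ := ha j
        exact ⟨k, by rw [hmul, hj, hk]⟩ }
  have key : ∀ g i, ∃ j, f g (s i) = s j := fun g => submonoid_eq_top S hS M hcl g
  choose σ hσ using key
  have h1' : ∀ i, σ 1 i = i := fun i => hs (by rw [← hσ, h1])
  have hmul' : ∀ a b i, σ (a * b) i = σ a (σ b i) := fun a b i => hs (by rw [← hσ, hmul, hσ b, hσ a])
  refine ⟨{ toFun := fun g => ⟨σ g, σ g⁻¹, fun i => ?_, fun i => ?_⟩, map_one' := ?_, map_mul' := ?_ }, hσ⟩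
  · rw [← hmul', inv_mul_cancel, h1']
  · rw [← hmul', mul_inv_cancel, h1']
  · ext i; exact congrArg Fin.val (h1' i)
  · intro a b; ext i; exact congrArg Fin.val (hmul' a b i)

/-- An element of order seven commuting with `t` fixes a point when seven does not divide the number of points
fixed by `t`. -/
theorem exists_common_fixed {m : ℕ} (σ : G →* Equiv.Perm (Fin m)) {t r : G} (hrt : r * t = t * r)
    (hr : r ^ 7 = 1) (hc : ¬ 7 ∣ (Finset.univ.filter fun i => σ t i = i).card) : ∃ i, σ r i = i := by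
  haveI : Fact (Nat.Prime 7) := ⟨by norm_num⟩
  have hmem : ∀ i, σ t (σ r i) = σ r i ↔ σ t i = i := fun i => by
    rw [← Equiv.Perm.mul_apply, ← map_mul, ← hrt, map_mul, Equiv.Perm.mul_apply]
    exact (σ r).injective.eq_iff
  let e : Equiv.Perm {i // σ t i = i} := (σ r).subtypePerm hmem
  have he : e ^ 7 ^ 1 = 1 := by
    refine Equiv.ext fun x => Subtype.ext ?_
    rw [pow_one, show e ^ 7 = _ from Equiv.Perm.subtypePerm_pow (σ r) 7 hmem]
    show ((σ r) ^ 7) (x : Fin m) = _
    rw [← map_pow, hr, map_one]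
    rfl
  have hcard : ¬ 7 ∣ Fintype.card {i // σ t i = i} := by rwa [Fintype.card_subtype]
  obtain ⟨a, ha⟩ := e.exists_fixed_point_of_prime hcard he
  exact ⟨a, congrArg Subtype.val ha⟩

/-- Every element of prime power order is conjugate into a Sylow subgroup. -/
theorem exists_conj_mem {p : ℕ} [Fact p.Prime] (S : Subgroup G) {e : ℕ} (hS : Nat.card S = p ^ e)
    (he : ¬ p ^ (e + 1) ∣ Nat.card G) {x : G} {k : ℕ} (hx : x ^ p ^ k = 1) : ∃ c, c * x * c⁻¹ ∈ S := by
  obtain ⟨P, hP⟩ := (IsPGroup.of_card hS).exists_le_sylow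
  have hSP : S = P := by
    refine Subgroup.eq_of_le_of_card_ge hP ?_
    obtain ⟨j, hj⟩ := P.2.exists_card_eq
    rw [hS]
    show Nat.card (P : Subgroup G) ≤ _
    rw [hj]
    refine Nat.pow_le_pow_right (Fact.out : p.Prime).pos ?_
    by_contra hlt
    exact he ((pow_dvd_pow p (Nat.succ_le_of_lt (not_le.mp hlt))).trans
      (hj ▸ Subgroup.card_subgroup_dvd_card (P : Subgroup G)))
  have hz : IsPGroup p (Subgroup.zpowers x) := fun y => ⟨k, by
    obtain ⟨n, hn⟩ := Subgroup.mem_zpowers_iff.mp y.2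
    refine Subtype.ext ?_
    rw [Subgroup.coe_pow, ← hn, ← zpow_natCast, zpow_comm, zpow_natCast, hx, one_zpow]
    rfl⟩
  obtain ⟨Q, hQ⟩ := hz.exists_le_sylow
  obtain ⟨c, hc⟩ := MulAction.exists_smul_eq G Q P
  refine ⟨c, ?_⟩
  rw [hSP]
  show c * x * c⁻¹ ∈ (P : Subgroup G)
  rw [← hc, Sylow.coe_subgroup_smul]
  exact Subgroup.smul_mem_pointwise_smul x (MulAut.conj c) _ (hQ (Subgroup.mem_zpowers x))

/-- An element of order seven fixing a point of a transitive action is a conjugate of a power of `h`. -/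
theorem exists_conj_pow {m k : ℕ} (σ : G →* Equiv.Perm (Fin m)) (i₀ : Fin m)
    (htr : ∀ i, ∃ g, σ g i₀ = i) (hcard : Nat.card G = m * k) (hk : ¬ 7 ^ 2 ∣ k) {h : G} (hh : orderOf h = 7)
    (hfix : σ h i₀ = i₀) {r : G} (hr : r ^ 7 = 1) {i : Fin m} (hi : σ r i = i) :
    ∃ c : G, ∃ j : ℕ, r = c * h ^ j * c⁻¹ := by
  classical
  haveI : Fact (Nat.Prime 7) := ⟨by norm_num⟩
  letI : MulAction G (Fin m) := MulAction.compHom (Fin m) σ
  obtain ⟨g, hg⟩ := htr i
  set St := MulAction.stabilizer G i₀ with hSt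
  have hStk : Nat.card St = k := by
    have h1 := St.card_mul_index
    have h2 : St.index = m := by
      rw [hSt, MulAction.index_stabilizer]
      have : (MulAction.orbit G i₀) = Set.univ := Set.eq_univ_of_forall fun j => by
        obtain ⟨a, ha⟩ := htr j; exact ⟨a, ha⟩
      rw [this, Set.ncard_univ, Nat.card_fin]
    rw [h2, hcard, mul_comm m k] at h1
    exact Nat.eq_of_mul_eq_mul_right (Fin.pos i₀) h1
  have hhm : h ∈ St := hfix
  have hcp : Nat.card (Subgroup.zpowers (⟨h, hhm⟩ : St)) = 7 ^ 1 := by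
    rw [Nat.card_zpowers, Subgroup.orderOf_mk, hh, pow_one]
  have hrm : g⁻¹ * r * g ∈ St := by
    show σ (g⁻¹ * r * g) i₀ = i₀
    rw [map_mul, map_mul, Equiv.Perm.mul_apply, Equiv.Perm.mul_apply, hg, hi, map_inv, ← hg, Equiv.Perm.inv_eq_iff_eq]
    all_goals rw [hg]
  have hr' : (⟨g⁻¹ * r * g, hrm⟩ : St) ^ 7 ^ 1 = 1 := Subtype.ext (by
    rw [Subgroup.coe_pow, pow_one]
    show (g⁻¹ * r * g) ^ 7 = 1
    rw [show g⁻¹ * r * g = g⁻¹ * r * (g⁻¹)⁻¹ by rw [inv_inv], conj_pow, hr, mul_one, mul_inv_cancel])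
  obtain ⟨c, hc⟩ := exists_conj_mem (Subgroup.zpowers (⟨h, hhm⟩ : St)) hcp (by rwa [hStk]) hr'
  obtain ⟨j, -, hj⟩ := ((isOfFinOrder_of_finite _).mem_zpowers_iff_mem_range_orderOf).mp hc |> Finset.mem_image.mp
  have hj' := congrArg Subtype.val hj
  simp only [Subgroup.coe_mul, Subgroup.coe_pow, Subgroup.coe_inv] at hj'
  refine ⟨g * (c : G)⁻¹, j, ?_⟩
  rw [hj']
  group

/-- A duplicate free family closed under generators is a subgroup of that order. -/
theorem exists_subgroup {m : ℕ} (e : Fin m → G) (he : Function.Injective e) (i₀ : Fin m) (h0 : e i₀ = 1)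
    (S : Set G) (hS : ∀ s ∈ S, ∀ i, ∃ j, e i * s = e j) (hgen : ∀ i, e i ∈ Submonoid.closure S) :
    ∃ H : Subgroup G, Nat.card H = m ∧ ∀ g ∈ H, ∃ i, e i = g := by
  have hsub : ∀ g ∈ Submonoid.closure S, ∀ i, ∃ j, e i * g = e j := by
    intro g hg
    induction hg using Submonoid.closure_induction with
    | mem s hs => exact hS s hs
    | one => exact fun i => ⟨i, mul_one _⟩
    | mul a b _ _ iha ihb =>
      intro i
      obtain ⟨j, hj⟩ := iha i
      obtain ⟨l, hl⟩ := ihb j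
      exact ⟨l, by rw [← mul_assoc, hj, hl]⟩
  let H : Subgroup G := ofFinMonoid (Submonoid.closure S)
  have hex : ∀ g ∈ H, ∃ i, e i = g := fun g hg => by
    obtain ⟨j, hj⟩ := hsub g hg i₀
    exact ⟨j, by rw [← hj, h0, one_mul]⟩
  refine ⟨H, ?_, hex⟩
  let f : Fin m → H := fun i => ⟨e i, hgen i⟩
  have : Function.Bijective f := ⟨fun a b hab => he (congrArg Subtype.val hab), fun g => by
    obtain ⟨i, hi⟩ := hex g g.2; exact ⟨i, Subtype.ext hi⟩⟩
  rw [← Nat.card_eq_of_bijective f this, Nat.card_fin]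

end Cfsg.Lib.TriSpec
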