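import Cfsg.Agent.TriSpec.Gens
import Cfsg.Agent.Classical.AutOrders.D4RootIso
import Cfsg.Agent.Chev.Tw.Inst

/-!
The eight dimensional representation of `³D₄(2)`.
-/

set_option autoImplicit false
set_option linter.unusedSectionVars false
set_option maxRecDepth 20000

namespace Cfsg.Lib.TriSpec

open Matrix Cfsg.Lie Cfsg.Lib.Classical.RootWords Cfsg.Lib.Classical.AutOrders

/-- The index map. -/
def idx8 : Fin 4 ⊕ Fin 4 ≃ Fin 8 := finSumFinEquiv

variable {K : Type*} [Field K]

/-- A coded field element. -/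
def elC (x : K) (t : ℕ) : K := bitK t 0 + bitK t 1 * x + bitK t 2 * x ^ 2

theorem rootPlaces_spec : ∀ r < 24, rootPlaces r = (orthRoots r).map (fun e => (idx8 e.2.1, idx8 e.2.2.1)) ∧
    ∀ e ∈ orthRoots r, e.1 = 1 ∧ (e.2.2.2 = 1 ∨ e.2.2.2 = -1) := by decide +kernel

theorem colC_singleC : ∀ i j j' : Fin 8, ∀ t : Fin 8,
    colC (singleC i j t) j' = if j' = j then placeC i t else 0 := by decide +kernel

theorem testBit_placeC : ∀ i i' t : Fin 8, ∀ b : Fin 3,
    (placeC i t).testBit (8 * b + i') = (decide (i' = i) && (t : ℕ).testBit b) := by decide +kernel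

theorem sqC_lt : ∀ t : Fin 8, sqC t < 8 := by decide +kernel

section Sem

variable [CharP K 2] (x : K)

theorem matC_xor (A B : ℕ) : matC x (Nat.xor A B) = matC x A + matC x B := by
  ext i j
  have e : colC (Nat.xor A B) j = Nat.xor (colC A j) (colC B j) := by
    refine Nat.eq_of_testBit_eq fun k => ?_
    simp only [show ∀ a b, Nat.xor a b = a ^^^ b from fun _ _ => rfl, testBit_colC, Nat.testBit_xor]
    cases decide (k < 24) <;> simp
  simp only [matC, Matrix.of_apply, Matrix.add_apply, e, vecC_xor, Pi.add_apply]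

theorem matC_singleC (i j t : Fin 8) : matC x (singleC i j t) = Matrix.single i j (elC x t) := by
  ext a b
  rw [matC, Matrix.of_apply, colC_singleC i j b t, Matrix.single_apply]
  by_cases hb : b = j
  · subst hb
    rw [if_pos rfl]
    have h := fun k => testBit_placeC i a t k
    have h0 := h 0
    have h1 := h 1
    have h2 := h 2
    simp at h0 h1 h2
    simp only [vecC, bitK, h0, h1, h2]
    by_cases ha : a = i
    · subst ha; simp [elC, bitK]
    · simp [ha, Ne.symm ha]
  · simp [hb, Ne.symm hb, vecC_zero]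

theorem matC_fold (t : Fin 8) : ∀ L : List (ℕ × (Fin 4 ⊕ Fin 4) × (Fin 4 ⊕ Fin 4) × ℤ),
    (∀ e ∈ L, e.1 = 1 ∧ (e.2.2.2 = 1 ∨ e.2.2.2 = -1)) →
      matC x ((L.map fun e => (idx8 e.2.1, idx8 e.2.2.1)).foldr (fun p acc => Nat.xor (singleC p.1 p.2 t) acc) oneC) =
        Matrix.reindexAlgEquiv K K idx8 (1 + (L.map fun e => Matrix.single e.2.1 e.2.2.1
          (Int.castRingHom K e.2.2.2 * elC x t ^ e.1)).sum) := by
  intro L
  induction L with
  | nil =>
    intro _
    rw [List.map_nil, List.foldr_nil, List.map_nil, List.sum_nil, add_zero, matC_one, map_one]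
  | cons e L ih =>
    intro hc
    obtain ⟨he1, he2⟩ := hc e List.mem_cons_self
    have h1 : Int.castRingHom K e.2.2.2 * elC x t ^ e.1 = elC x t := by
      rw [he1, pow_one]
      rcases he2 with h | h <;> simp [h, CharTwo.neg_eq]
    have h2 : Matrix.reindexAlgEquiv K K idx8 (Matrix.single e.2.1 e.2.2.1 (elC x t)) =
        Matrix.single (idx8 e.2.1) (idx8 e.2.2.1) (elC x t) := by
      ext a b
      simp [Matrix.single_apply, ← Equiv.eq_symm_apply]
    rw [List.map_cons, List.foldr_cons, List.map_cons, List.sum_cons, h1, matC_xor, matC_singleC,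
      ih fun a ha => hc a (List.mem_cons_of_mem _ ha)]
    simp only [map_add, h2]
    abel

/-- The matrix of a root element. -/
theorem matC_rootC {r : ℕ} (hr : r < 24) (t : Fin 8) :
    matC x (rootC r t) = Matrix.reindexAlgEquiv K K idx8 (gen (Int.castRingHom K) orthRoots r (elC x t)) := by
  have h := rootPlaces_spec r hr
  unfold rootC gen
  rw [h.1]
  exact matC_fold x t (orthRoots r) h.2

theorem elC_sq (hx : x ^ 3 = x + 1) (t : Fin 8) : elC x (sqC t) = elC x t ^ 2 := by
  have h2 : (2 : K) = 0 := CharTwo.two_eq_zero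
  fin_cases t <;> simp [elC, bitK, sqC, Nat.testBit_eq_decide_div_mod_eq] <;>
    first
    | ring1
    | linear_combination (-x) * h2
    | linear_combination (-x) * hx
    | linear_combination (-x) * hx - x ^ 2 * h2
    | linear_combination (-x) * hx - (x ^ 2 + x ^ 3) * h2
    | linear_combination (-x) * hx - (x + 2 * x ^ 2 + x ^ 3) * h2

theorem elC_injective (hx : x ^ 3 = x + 1) : Function.Injective fun t : Fin 8 => elC x t := by
  intro a b e
  have key : (bitK ((a : ℕ) ^^^ b) 0 : K) + bitK ((a : ℕ) ^^^ b) 1 * x + bitK ((a : ℕ) ^^^ b) 2 * x ^ 2 = 0 := by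
    simp only [show ∀ p q, p ^^^ q = Nat.xor p q from fun _ _ => rfl, bitK_xor]
    simp only [elC] at e
    linear_combination e + (bitK b 0 + bitK b 1 * x + bitK b 2 * x ^ 2) * (CharTwo.two_eq_zero : (2 : K) = 0)
  obtain ⟨h0, h1, h2⟩ := bits_zero x hx _ _ _ key
  have hall : ∀ a b : Fin 8, ((a : ℕ) ^^^ b).testBit 0 = false → ((a : ℕ) ^^^ b).testBit 1 = false →
      ((a : ℕ) ^^^ b).testBit 2 = false → a = b := by decide +kernel
  exact hall a b h0 h1 h2

variable [Fintype K] (hK : Fintype.card K = 8)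
include hK

theorem exists_elC (hx : x ^ 3 = x + 1) (z : K) : ∃ t : Fin 8, elC x t = z :=
  ((Fintype.bijective_iff_injective_and_card _).mpr ⟨elC_injective x hx, by simp [hK]⟩).2 z

end Sem

theorem exists_root (K : Type*) [Field K] [Fintype K] (hK : Fintype.card K = 8) : CharP K 2 ∧ ∃ x : K, x ^ 3 = x + 1 := by
  obtain ⟨p, hp⟩ := CharP.exists K
  obtain ⟨n, hpp, hn⟩ := FiniteField.card K p
  have hp2 : p = 2 := by
    have h : p ∣ 2 ^ 3 := by rw [show (2 : ℕ) ^ 3 = 8 from rfl, ← hK, hn]; exact dvd_pow_self p n.ne_zero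
    exact (Nat.prime_dvd_prime_iff_eq hpp Nat.prime_two).mp (hpp.dvd_of_dvd_pow h)
  subst hp2
  refine ⟨hp, ?_⟩
  haveI := hp
  have h2 : (2 : K) = 0 := CharTwo.two_eq_zero
  classical
  by_contra hall
  push Not at hall
  let p : Polynomial K := (Polynomial.X ^ 3 + Polynomial.X ^ 2 + 1) * (Polynomial.X * (Polynomial.X + 1))
  have hdeg : p.natDegree ≤ 5 := by
    simp only [p]
    compute_degree!
  have hp0 : p ≠ 0 := Polynomial.Monic.ne_zero (by simp only [p]; monicity!)
  have hroot : ∀ t : K, t ∈ p.roots := by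
    intro t
    rw [Polynomial.mem_roots hp0, Polynomial.IsRoot.def]
    have h8 := FiniteField.pow_card t
    rw [hK] at h8
    have : (t ^ 3 - t - 1) * p.eval t = 0 := by
      simp only [p, Polynomial.eval_mul, Polynomial.eval_add, Polynomial.eval_pow, Polynomial.eval_X,
        Polynomial.eval_one]
      linear_combination (norm := ring_nf) h8 + h2 * 0
      simp [h2]
    exact (mul_eq_zero.mp this).resolve_left fun e => hall t (by linear_combination e)
  have := (Finset.card_le_card (s := Finset.univ) (t := p.roots.toFinset) fun t _ => Multiset.mem_toFinset.mpr (hroot t)).trans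
    ((Multiset.toFinset_card_le _).trans ((Polynomial.card_roots' p).trans hdeg))
  rw [Finset.card_univ, hK] at this
  omega


/-- A word with coded parameters in the group of the datum. -/
theorem exists_rep (K : Type*) [Field K] [Fintype K] [CharP K 2] (x : K) :
    ∃ A : ↥(twistedD4 K 2) →* Matrix (Fin 8) (Fin 8) K, Function.Injective A ∧
      ∀ w : List (ℕ × ℕ), (∀ p ∈ w, p.1 < 24 ∧ p.2 < 8) → ∀ g : twistedD4 K 2,
        ((g : GL chevD4.Idx K) : Matrix chevD4.Idx chevD4.Idx K) =
          chevD4.wordMat K (w.map fun p => (p.1, elC x p.2)) → x ^ 3 = x + 1 → A g = matC x (wordC w) := by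
  let S : Cfsg.Lib.Chev.Struct chevD4 Cfsg.Lib.Chev.D4.cert := Cfsg.Lib.Chev.D4.struct
  obtain ⟨e, he⟩ := exists_root_iso_D4 (F := K)
  have hc : Subgroup.center (Cfsg.Omega K (Cfsg.quadFormPlus 4 K)) = ⊥ := by
    rw [show Cfsg.quadFormPlus 4 K = ⇑(Cfsg.Lib.Classical.HypQuad.plusForm 4 K) from
      (funext (Cfsg.Lib.Classical.HypQuad.plusForm_apply 4)).symm]
    exact Subgroup.card_eq_one.mp (Cfsg.Lib.Classical.Refl.center_card_one _
      (Cfsg.Lib.Classical.HypQuad.plusForm_nondegenerate 4) (by simp) fun g _ e => by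
        rw [e]; ext i j; exact CharTwo.neg_eq _)
  have hmem : ∀ v : List (ℕ × K), (S.ok.wG v) ∈ chevD4.group K := fun v => by
    induction v with
    | nil => exact one_mem _
    | cons p v ih =>
      rw [show S.ok.wG (p :: v) = S.ok.xG p.1 p.2 * S.ok.wG v by simp [Cfsg.Lib.Chev.Ok.wG]]
      exact mul_mem (S.ok.xG_mem_group _ _) ih
  have hle : twistedD4 K 2 ≤ chevD4.group K := by
    rw [twistedD4, S.genSubgroup_eq, Subgroup.closure_le]
    rintro g ⟨v, -, rfl⟩
    exact hmem v
  let π : Cfsg.Omega K (Cfsg.quadFormPlus 4 K) ≃*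
      Cfsg.Omega K (Cfsg.quadFormPlus 4 K) ⧸ Subgroup.center (Cfsg.Omega K (Cfsg.quadFormPlus 4 K)) :=
    MulEquiv.ofBijective (QuotientGroup.mk' _)
      ⟨(MonoidHom.ker_eq_bot_iff _).mp (by rw [QuotientGroup.ker_mk', hc]), QuotientGroup.mk'_surjective _⟩
  let R : Matrix (Fin 4 ⊕ Fin 4) (Fin 4 ⊕ Fin 4) K →* Matrix (Fin 8) (Fin 8) K :=
    (Matrix.reindexAlgEquiv K K idx8).toMulEquiv.toMonoidHom
  let c : Cfsg.Omega K (Cfsg.quadFormPlus 4 K) →* Matrix (Fin 4 ⊕ Fin 4) (Fin 4 ⊕ Fin 4) K :=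
    ((Units.coeHom _).comp (Subgroup.subtype _)).comp (Subgroup.subtype _)
  let B : ↥(chevD4.group K) →* Matrix (Fin 8) (Fin 8) K :=
    R.comp (c.comp ((e.trans π.symm).toMonoidHom))
  have hB : Function.Injective B := by
    intro a b h
    refine (e.trans π.symm).injective (Subtype.ext (Subtype.ext (Units.ext ?_)))
    exact (Matrix.reindexAlgEquiv K K idx8).injective h
  refine ⟨B.comp (Subgroup.inclusion hle), hB.comp (Subgroup.inclusion_injective hle), ?_⟩
  intro w hw g hg hx
  have hx1 : ∀ r < 24, ∀ t : Fin 8, B ⟨S.ok.xG r (elC x t), S.ok.xG_mem_group _ _⟩ = matC x (rootC r t) := by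
    intro r hr t
    obtain ⟨s, hs1, hs2⟩ := he r hr (elC x t) ⟨S.ok.xG r (elC x t), S.ok.xG_mem_group _ _⟩ (S.ok.val_xG r _)
    rw [matC_rootC x hr t, ← hs1]
    show R (c (π.symm (e _))) = _
    rw [hs2, show QuotientGroup.mk s = π s from rfl, π.symm_apply_apply]
    rfl
  have key : ∀ v : List (ℕ × ℕ), (∀ p ∈ v, p.1 < 24 ∧ p.2 < 8) →
      B ⟨S.ok.wG (v.map fun p => (p.1, elC x p.2)), hmem _⟩ = matC x (wordC v) := by
    intro v hv
    induction v with
    | nil =>
      rw [wordC, matC_one]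
      exact map_one B
    | cons p v ih =>
      rw [wordC, matC_mul x hx, ← ih fun q hq => hv q (List.mem_cons_of_mem _ hq),
        ← hx1 p.1 (hv p List.mem_cons_self).1 ⟨p.2, (hv p List.mem_cons_self).2⟩, ← map_mul]
      congr 1
  rw [MonoidHom.comp_apply, ← key w hw]
  exact congrArg B (Subtype.ext (Units.ext (hg.trans (S.val_wG _).symm)))

end Cfsg.Lib.TriSpec
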