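import Mathlib.LinearAlgebra.Matrix.Notation
import Mathlib.FieldTheory.Finite.Basic
import Mathlib.GroupTheory.OrderOfElement
import Mathlib.LinearAlgebra.Matrix.CharP
import Mathlib.Algebra.CharP.Lemmas
import Mathlib.Algebra.CharP.Two
import Mathlib.Tactic

/-!
When the sum of the powers of a matrix vanishes, and the case analysis for a group of order `2¹² · 3⁴ · 7² · 13`.
-/

set_option autoImplicit false
set_option linter.unusedSectionVars false

local instance : Fact (Nat.Prime 2) := ⟨Nat.prime_two⟩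

namespace Cfsg.Lib.TriSpec

open Matrix Finset

variable {K : Type*} [Field K] [CharP K 2]

/-- Square matrices of size eight. -/
abbrev M8 (K : Type*) := Matrix (Fin 8) (Fin 8) K

theorem sum_split {R : Type*} [Semiring R] (a : R) (m : ℕ) : ∀ N : ℕ,
    ∑ i ∈ range (m * N), a ^ i = (∑ i ∈ range m, a ^ i) * ∑ j ∈ range N, (a ^ m) ^ j
  | 0 => by simp
  | N + 1 => by
    rw [Nat.mul_succ, Finset.sum_range_add, sum_split a m N, Finset.sum_range_succ, mul_add]
    congr 1
    rw [Finset.sum_mul]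
    refine Finset.sum_congr rfl fun i _ => ?_
    rw [← pow_mul, ← pow_add, add_comm]

theorem geom_two_pow {R : Type*} [Ring R] [CharP R 2] (b : R) :
    ∀ a : ℕ, ∑ j ∈ range (2 ^ a), b ^ j = (b - 1) ^ (2 ^ a - 1)
  | 0 => by simp
  | a + 1 => by
    have h : (b - 1) ^ (2 ^ a) = b ^ (2 ^ a) + 1 := by
      rw [CharTwo.sub_eq_add, add_pow_char_pow_of_commute 2 a (Commute.one_right b), one_pow]
    rw [pow_succ, mul_two, Finset.sum_range_add, geom_two_pow b a]
    have e : ∑ x ∈ range (2 ^ a), b ^ (2 ^ a + x) = b ^ (2 ^ a) * (b - 1) ^ (2 ^ a - 1) := by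
      rw [← geom_two_pow b a, Finset.mul_sum]
      exact Finset.sum_congr rfl fun x _ => pow_add _ _ _
    rw [e, show 2 ^ a + 2 ^ a - 1 = 2 ^ a + (2 ^ a - 1) by have := Nat.one_le_two_pow (n := a); omega, pow_add, h,
      add_mul, one_mul, add_comm]

/-- No non-zero fixed vector. -/
def FixFree (s : M8 K) : Prop := ∀ v, s *ᵥ v = v → v = 0

/-- The conjugate of a fixed-point-free matrix. -/
theorem FixFree.conj {s c c' : M8 K} (h : FixFree s) (hc : c' * c = 1) (hc2 : c * c' = 1) :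
    FixFree (c * s * c') := fun v hv => by
  have h1 : s *ᵥ (c' *ᵥ v) = c' *ᵥ v := by
    conv_rhs => rw [← hv]
    simp only [mulVec_mulVec, ← mul_assoc, hc, one_mul]
  have h2 := h _ h1
  calc v = (c * c') *ᵥ v := by rw [hc2, one_mulVec]
    _ = 0 := by rw [← mulVec_mulVec, h2, mulVec_zero]

theorem FixFree.of_pow {s : M8 K} {k : ℕ} (h : FixFree (s ^ k)) : FixFree s := fun v hv => by
  refine h v ?_
  induction k with
  | zero => rw [pow_zero, one_mulVec]
  | succ k ih => rw [pow_succ, ← mulVec_mulVec, hv]; exact ih_aux k hv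
where
  ih_aux {s : M8 K} (k : ℕ) {v : Fin 8 → K} (hv : s *ᵥ v = v) : s ^ k *ᵥ v = v := by
    induction k with
    | zero => rw [pow_zero, one_mulVec]
    | succ k ih => rw [pow_succ, ← mulVec_mulVec, hv, ih]

theorem pow_fix {s : M8 K} (k : ℕ) {v : Fin 8 → K} (hv : s *ᵥ v = v) : s ^ k *ᵥ v = v :=
  FixFree.of_pow.ih_aux k hv

theorem natCast_odd {R : Type*} [Ring R] [CharP R 2] {m : ℕ} (hm : Odd m) : (m : R) = 1 := by
  obtain ⟨k, rfl⟩ := hm
  simp [CharTwo.two_eq_zero]

theorem sum_mulVec' (s : M8 K) (m : ℕ) (v : Fin 8 → K) :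
    (∑ i ∈ range m, s ^ i) *ᵥ v = ∑ i ∈ range m, s ^ i *ᵥ v :=
  Matrix.sum_mulVec _ _ _

/-- The criterion for the sum of the powers to vanish. -/
theorem trace_eq_zero (a : M8 K) {k m : ℕ} (hm : Odd m) (hn : a ^ (m * 2 ^ k) = 1)
    (hW : ∀ w, a ^ (2 ^ k) *ᵥ w = w → (a ^ m - 1) ^ (2 ^ k - 1) *ᵥ w = 0) :
    ∑ i ∈ range (m * 2 ^ k), a ^ i = 0 := by
  set T := ∑ i ∈ range (m * 2 ^ k), a ^ i with hTdef
  set s := a ^ (2 ^ k) with hsdef
  have hTa : T * a = T := by
    have := geom_sum_mul a (m * 2 ^ k)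
    rw [hn, sub_self, ← hTdef, mul_sub, mul_one, sub_eq_zero] at this
    exact this
  have hTs : ∀ i, T * s ^ i = T := by
    intro i
    rw [hsdef, ← pow_mul]
    generalize 2 ^ k * i = l
    induction l with
    | zero => rw [pow_zero, mul_one]
    | succ l ih => rw [pow_succ, ← mul_assoc, ih, hTa]
  refine Matrix.ext_of_mulVec_single fun j => ?_
  set v : Fin 8 → K := Pi.single j 1
  set w := (∑ i ∈ range m, s ^ i) *ᵥ v
  have hs : s *ᵥ w = w := by
    show s *ᵥ ((∑ i ∈ range m, s ^ i) *ᵥ v) = _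
    rw [mulVec_mulVec]
    congr 1
    have h1 := mul_geom_sum s m
    rw [show s ^ m = 1 by rw [hsdef, ← pow_mul, mul_comm, hn], sub_self, sub_mul, one_mul, sub_eq_zero] at h1
    exact h1
  have hTv : T *ᵥ w = T *ᵥ v := by
    show T *ᵥ ((∑ i ∈ range m, s ^ i) *ᵥ v) = _
    rw [mulVec_mulVec, Finset.mul_sum, Finset.sum_congr rfl fun i _ => hTs i, Finset.sum_const, card_range,
      nsmul_eq_mul, natCast_odd hm, one_mul]
  rw [zero_mulVec, ← hTv, hTdef, sum_split, geom_two_pow, ← mulVec_mulVec, hW w hs, mulVec_zero]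

variable [Fintype K] (hK : Fintype.card K = 8)

/-- The fixed vectors. -/
def fixSet (s : M8 K) : Set (Fin 8 → K) := {v | s *ᵥ v = v}

include hK in
theorem eq_one_of_cube (l : K) (h : l ^ 3 = 1) : l = 1 := by
  have h0 : l ≠ 0 := by rintro rfl; simp at h
  have h7 : l ^ 7 = 1 := by
    have := FiniteField.pow_card_sub_one_eq_one l h0
    rwa [hK] at this
  calc l = l ^ 7 := by rw [show 7 = 3 * 2 + 1 from rfl, pow_succ, pow_mul, h, one_pow, one_mul]
    _ = 1 := h7

/-- Three fixed vectors that are linearly independent give more than sixty-four. -/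
theorem card_lt_of_three (S : Set (Fin 8 → K)) (u : Fin 3 → (Fin 8 → K))
    (hS : ∀ a b c : K, a • u 0 + b • u 1 + c • u 2 ∈ S)
    (hind : ∀ a b c : K, a • u 0 + b • u 1 + c • u 2 = 0 → a = 0 ∧ b = 0 ∧ c = 0) (hK : Fintype.card K = 8) :
    64 < Nat.card S := by
  have : Nat.card (K × K × K) ≤ Nat.card S := by
    refine Nat.card_le_card_of_injective
      (fun p => (⟨p.1 • u 0 + p.2.1 • u 1 + p.2.2 • u 2, hS _ _ _⟩ : S)) ?_
    rintro ⟨a, b, c⟩ ⟨a', b', c'⟩ e
    have e' := congrArg Subtype.val e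
    obtain ⟨h1, h2, h3⟩ := hind (a - a') (b - b') (c - c') (by
      rw [sub_smul, sub_smul, sub_smul]
      simp only at e'
      rw [← sub_eq_zero] at e'
      rw [← e']
      abel)
    rw [sub_eq_zero.mp h1, sub_eq_zero.mp h2, sub_eq_zero.mp h3]
  simp only [Nat.card_prod, Nat.card_eq_fintype_card (α := K), hK] at this
  omega

include hK in
/-- The elements of order twelve. -/
theorem cube_kill_three (s u : M8 K) (hc : s * u = u * s) (hs3 : s ^ 3 = 1) (hs1 : s ≠ 1)
    (hu : u ^ 4 = 1) (hker : (u - 1) ^ 3 = 0 ∨ Nat.card (fixSet u) ≤ 64) :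
    ∀ w, s *ᵥ w = w → (u - 1) ^ 3 *ᵥ w = 0 := by
  intro w hw
  rcases hker with h | h
  · rw [h, zero_mulVec]
  by_contra hne
  set N := u - 1 with hN
  have hN4 : N ^ 4 = 0 := by
    rw [hN, CharTwo.sub_eq_add, show 4 = 2 ^ 2 from rfl, add_pow_char_pow_of_commute 2 2 (Commute.one_right u),
      one_pow, show u ^ 2 ^ 2 = 1 from hu, CharTwo.add_self_eq_zero]
  have hcN : s * N = N * s := by rw [hN, mul_sub, sub_mul, mul_one, one_mul, hc]
  have hcNk : ∀ k, s * N ^ k = N ^ k * s := fun k => ((show Commute s N from hcN).pow_right k).eq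
  have hufix : ∀ z, N *ᵥ z = 0 → u *ᵥ z = z := fun z hz => by
    rw [hN, sub_mulVec, one_mulVec, sub_eq_zero] at hz
    exact hz
  obtain ⟨c0, hc0⟩ : ∃ v, s *ᵥ v ≠ v := by
    by_contra hall
    push Not at hall
    exact hs1 (Matrix.ext_of_mulVec_single fun j => by rw [hall, one_mulVec])
  set d := s *ᵥ c0 + c0 with hd
  have hd0 : d ≠ 0 := fun e => hc0 (by
    funext i
    have := congrFun e i
    rwa [hd, Pi.add_apply, Pi.zero_apply, ← CharTwo.sub_eq_add, sub_eq_zero] at this)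
  have hrel : ∀ z, s *ᵥ (s *ᵥ z) + s *ᵥ z + z = 0 → ∀ k, s *ᵥ (s *ᵥ (N ^ k *ᵥ z)) + s *ᵥ (N ^ k *ᵥ z) + N ^ k *ᵥ z = 0 := by
    intro z hz k
    have e1 : ∀ y, s *ᵥ (N ^ k *ᵥ y) = N ^ k *ᵥ (s *ᵥ y) := fun y => by rw [mulVec_mulVec, mulVec_mulVec, hcNk]
    rw [e1, e1, ← mulVec_add, ← mulVec_add, hz, mulVec_zero]
  have hJd : s *ᵥ (s *ᵥ d) + s *ᵥ d + d = 0 := by
    rw [hd]
    simp only [mulVec_add, mulVec_mulVec]
    rw [show s * (s * s) = 1 by rw [← hs3]; noncomm_ring, one_mulVec]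
    have h2 : ∀ z : Fin 8 → K, z + z = 0 := fun z => funext fun i => CharTwo.add_self_eq_zero (z i)
    calc _ = (c0 + c0) + ((s * s) *ᵥ c0 + (s * s) *ᵥ c0) + (s *ᵥ c0 + s *ᵥ c0) := by abel
      _ = 0 := by simp only [h2, add_zero]
  classical
  have hex : ∃ k, N ^ k *ᵥ d = 0 := ⟨4, by rw [hN4, zero_mulVec]⟩
  have hk0 : Nat.find hex ≠ 0 := fun e => hd0 (by
    have := Nat.find_spec hex; rwa [e, pow_zero, one_mulVec] at this)
  set c := N ^ (Nat.find hex - 1) *ᵥ d with hcdef
  have hc1 : c ≠ 0 := Nat.find_min hex (by omega)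
  have hNc : N *ᵥ c = 0 := by
    have := Nat.find_spec hex
    rw [hcdef, mulVec_mulVec, ← pow_succ', Nat.sub_add_cancel (Nat.pos_of_ne_zero hk0)]
    exact this
  have hJc : s *ᵥ (s *ᵥ c) + s *ᵥ c + c = 0 := hrel d hJd _
  set n3 := N ^ 3 *ᵥ w with hn3
  have hs_n3 : s *ᵥ n3 = n3 := by rw [hn3, mulVec_mulVec, hcNk, ← mulVec_mulVec, hw]
  have hNn3 : N *ᵥ n3 = 0 := by rw [hn3, mulVec_mulVec, ← pow_succ', hN4, zero_mulVec]
  have hNsc : N *ᵥ (s *ᵥ c) = 0 := by rw [mulVec_mulVec, ← hcN, ← mulVec_mulVec, hNc, mulVec_zero]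
  have := card_lt_of_three (fixSet u) ![n3, c, s *ᵥ c]
    (fun a b e => by
      refine hufix _ ?_
      simp [mulVec_add, mulVec_smul, hNn3, hNc, hNsc])
    (fun a b e h0 => by
      simp only [Matrix.cons_val_zero, Matrix.cons_val_one, Matrix.cons_val_two, Matrix.tail_cons,
        Matrix.head_cons, Matrix.cons_val] at h0
      have h3 : (3 : K) = 1 := by
        rw [show (3 : K) = 2 + 1 by norm_num, CharTwo.two_eq_zero, zero_add]
      have h1 := congrArg (fun z => s *ᵥ z) h0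
      have h2 := congrArg (fun z => s *ᵥ (s *ᵥ z)) h0
      simp only [mulVec_add, mulVec_smul, mulVec_zero, hs_n3] at h1 h2
      have hs3c : s *ᵥ (s *ᵥ (s *ᵥ c)) = c := by
        rw [mulVec_mulVec, mulVec_mulVec, show s * s * s = 1 by rw [← hs3]; noncomm_ring, one_mulVec]
      rw [hs3c] at h2
      have ha : a = 0 := by
        have hsum : ((3 : K) * a) • n3 + b • (s *ᵥ (s *ᵥ c) + s *ᵥ c + c) + e • (s *ᵥ (s *ᵥ c) + s *ᵥ c + c) = 0 := by
          calc _ = (a • n3 + b • c + e • (s *ᵥ c)) + (a • n3 + b • (s *ᵥ c) + e • (s *ᵥ (s *ᵥ c))) +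
                (a • n3 + b • (s *ᵥ (s *ᵥ c)) + e • c) := by
                  rw [show (3 : K) * a = a + a + a by ring, add_smul, add_smul]
                  simp only [smul_add]
                  abel
            _ = 0 := by rw [h0, h1, h2, add_zero, add_zero]
        rw [hJc, smul_zero, smul_zero, add_zero, add_zero, h3, one_mul, smul_eq_zero] at hsum
        exact hsum.resolve_right hne
      subst ha
      rw [zero_smul, zero_add] at h0
      by_cases he : e = 0
      · subst he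
        rw [zero_smul, add_zero, smul_eq_zero] at h0
        exact ⟨rfl, h0.resolve_right hc1, rfl⟩
      · exfalso
        have hl : s *ᵥ c = (-(b / e)) • c := by
          have : e • (s *ᵥ c) = -(b • c) := eq_neg_of_add_eq_zero_right h0
          calc s *ᵥ c = e⁻¹ • (e • (s *ᵥ c)) := by rw [smul_smul, inv_mul_cancel₀ he, one_smul]
            _ = _ := by rw [this, smul_neg, smul_smul, neg_smul]; congr 2; ring
        set l := -(b / e)
        have hl3 : l ^ 3 = 1 := by
          have := hs3c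
          rw [hl, mulVec_smul, hl, smul_smul, mulVec_smul, hl, smul_smul] at this
          have h' : (l * l * l - 1) • c = 0 := by rw [sub_smul, one_smul, this, sub_self]
          rcases smul_eq_zero.mp h' with h'' | h''
          · rw [← sub_eq_zero, ← h'']; ring
          · exact absurd h'' hc1
        rw [eq_one_of_cube hK l hl3, one_smul] at hl
        rw [hl, hl, (funext fun i => CharTwo.add_self_eq_zero (c i) : c + c = 0), zero_add] at hJc
        exact hc1 hJc) hK
  omega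

include hK in
/-- The elements of order twenty-eight. -/
theorem cube_kill_small (s u : M8 K) (hc : s * u = u * s) (hu : u ^ 4 = 1) (hW : Nat.card (fixSet s) ≤ 64) :
    ∀ w, s *ᵥ w = w → (u - 1) ^ 3 *ᵥ w = 0 := by
  intro w hw
  by_contra hne
  set N := u - 1 with hN
  have hN4 : N ^ 4 = 0 := by
    rw [hN, CharTwo.sub_eq_add, show 4 = 2 ^ 2 from rfl, add_pow_char_pow_of_commute 2 2 (Commute.one_right u),
      one_pow, show u ^ 2 ^ 2 = 1 from hu, CharTwo.add_self_eq_zero]
  have hcN : s * N = N * s := by rw [hN, mul_sub, sub_mul, mul_one, one_mul, hc]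
  have hfix : ∀ k, s *ᵥ (N ^ k *ᵥ w) = N ^ k *ᵥ w := fun k => by
    rw [mulVec_mulVec, ((show Commute s N from hcN).pow_right k).eq, ← mulVec_mulVec, hw]
  have := card_lt_of_three (fixSet s) ![N ^ 3 *ᵥ w, N ^ 2 *ᵥ w, N ^ 1 *ᵥ w]
    (fun a b e => by
      show s *ᵥ _ = _
      have hfix1 : s *ᵥ (N *ᵥ w) = N *ᵥ w := by simpa using hfix 1
      simp [mulVec_add, mulVec_smul, hfix, hfix1])
    (fun a b e h0 => by
      simp only [Matrix.cons_val_zero, Matrix.cons_val_one, Matrix.cons_val_two, Matrix.tail_cons,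
        Matrix.head_cons, Matrix.cons_val] at h0
      have hz : ∀ k, 4 ≤ k → N ^ k *ᵥ w = 0 := fun k hk => by
        rw [pow_eq_zero_of_le hk hN4, zero_mulVec]
      have h2 := congrArg (fun z => N ^ 2 *ᵥ z) h0
      simp only [mulVec_add, mulVec_smul, mulVec_mulVec, ← pow_add, mulVec_zero, Nat.reduceAdd, hz 5 (by norm_num),
        hz 4 le_rfl, smul_zero, zero_add, smul_eq_zero] at h2
      have he := h2.resolve_right hne
      subst he
      rw [zero_smul, add_zero] at h0
      have h1 := congrArg (fun z => N ^ 1 *ᵥ z) h0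
      simp only [mulVec_add, mulVec_smul, mulVec_mulVec, ← pow_add, mulVec_zero, Nat.reduceAdd,
        hz 4 le_rfl, smul_zero, zero_add, smul_eq_zero] at h1
      have hb := h1.resolve_right hne
      subst hb
      rw [zero_smul, add_zero, smul_eq_zero] at h0
      exact ⟨h0.resolve_right hne, rfl, rfl⟩) hK
  omega

/-- The facts needed about elements of prime power order. -/
structure Facts {G : Type*} [Group G] (A : G →* M8 K) : Prop where
  inj : Function.Injective A
  card_dvd : Nat.card G ∣ 2 ^ 12 * (3 ^ 4 * 7 ^ 2 * 13)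
  two : ∀ (u : G) (k : ℕ), u ^ 2 ^ k = 1 →
    (A u - 1) ^ 7 = 0 ∧ ((A u - 1) ^ 3 = 0 ∨ Nat.card (fixSet (A u)) ≤ 64)
  three : ∀ (s : G) (k : ℕ), s ^ 3 ^ k = 1 → s ^ 9 = 1 ∧ (s ^ 3 ≠ 1 → FixFree (A s))
  seven : ∀ (s : G) (k : ℕ), s ^ 7 ^ k = 1 → s ^ 7 = 1 ∧ (s ≠ 1 → Nat.card (fixSet (A s)) ≤ 64)
  thirteen : ∀ s : G, s ^ 13 = 1 → s ≠ 1 → FixFree (A s)
  twentyone : ∀ t r : G, t ^ 3 = 1 → t ≠ 1 → r ^ 7 = 1 → r ≠ 1 → r * t = t * r →
    ∀ v, A t *ᵥ v = v → A r *ᵥ v = v → v = 0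

include hK in
theorem order_or_trace {G : Type*} [Group G] [Finite G] {A : G →* M8 K} (F : Facts A) (g : G) :
    orderOf g ∈ ({1, 2, 3, 4, 6, 7, 14} : Finset ℕ) ∨ ∑ i ∈ range (orderOf g), A g ^ i = 0 := by
  obtain ⟨k, m, hm, hn⟩ := Nat.exists_eq_two_pow_mul_odd (orderOf_pos g).ne'
  set s := g ^ 2 ^ k with hs_def
  set u := g ^ m with hu_def
  have hmpos : 0 < m := hm.pos
  have hs : orderOf s = m := by
    rw [hs_def, orderOf_pow' _ (pow_ne_zero k two_ne_zero), hn, Nat.gcd_mul_right_left,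
      Nat.mul_div_cancel_left _ (Nat.two_pow_pos k)]
  have hu : orderOf u = 2 ^ k := by
    rw [hu_def, orderOf_pow' _ hmpos.ne', hn, Nat.gcd_mul_left_left, Nat.mul_div_cancel _ hmpos]
  have hsm : s ^ m = 1 := hs ▸ pow_orderOf_eq_one s
  have huk : u ^ 2 ^ k = 1 := hu ▸ pow_orderOf_eq_one u
  have hcrit : (∀ w, A s *ᵥ w = w → (A u - 1) ^ (2 ^ k - 1) *ᵥ w = 0) →
      ∑ i ∈ range (orderOf g), A g ^ i = 0 := fun h => by
    rw [hn, mul_comm (2 ^ k) m]
    refine trace_eq_zero (A g) hm ?_ ?_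
    · rw [← map_pow, mul_comm, ← hn, pow_orderOf_eq_one, map_one]
    · rw [← map_pow, ← map_pow]; exact h
  have hfree : FixFree (A s) → ∑ i ∈ range (orderOf g), A g ^ i = 0 := fun h =>
    hcrit fun w hw => by rw [h w hw, mulVec_zero]
  have hmd : m ∣ 3 ^ 4 * 7 ^ 2 * 13 := by
    have h1 : m ∣ 2 ^ 12 * (3 ^ 4 * 7 ^ 2 * 13) := (hs ▸ orderOf_dvd_natCard s).trans F.card_dvd
    exact (Nat.Coprime.pow_right 12 (Nat.coprime_two_right.mpr hm)).dvd_of_dvd_mul_left h1
  by_cases h13 : 13 ∣ m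
  · right
    refine hfree ?_
    have h : FixFree (A (s ^ (m / 13))) := F.thirteen _ (by rw [← pow_mul, Nat.div_mul_cancel h13, hsm]) fun e => by
      have := Nat.le_of_dvd (Nat.div_pos (Nat.le_of_dvd hmpos h13) (by norm_num)) (hs ▸ orderOf_dvd_of_pow_eq_one e)
      omega
    rw [map_pow] at h
    exact h.of_pow
  have hm2 : m ∣ 3 ^ 4 * 7 ^ 2 := ((by norm_num : Nat.Prime 13).coprime_iff_not_dvd.mpr h13).symm
    |>.dvd_of_dvd_mul_right hmd
  by_cases h3 : 3 ∣ m
  · by_cases h7 : 7 ∣ m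
    · right
      refine hfree fun v hv => ?_
      refine F.twentyone (s ^ (m / 3)) (s ^ (m / 7)) ?_ ?_ ?_ ?_ ((Commute.refl s).pow_pow _ _).eq v ?_ ?_
      · rw [← pow_mul, Nat.div_mul_cancel h3, hsm]
      · intro e
        have := Nat.le_of_dvd (Nat.div_pos (Nat.le_of_dvd hmpos h3) (by norm_num)) (hs ▸ orderOf_dvd_of_pow_eq_one e)
        omega
      · rw [← pow_mul, Nat.div_mul_cancel h7, hsm]
      · intro e
        have := Nat.le_of_dvd (Nat.div_pos (Nat.le_of_dvd hmpos h7) (by norm_num)) (hs ▸ orderOf_dvd_of_pow_eq_one e)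
        omega
      · rw [map_pow]; exact pow_fix _ hv
      · rw [map_pow]; exact pow_fix _ hv
    · have hm3 : m ∣ 3 ^ 4 := (((by norm_num : Nat.Prime 7).coprime_iff_not_dvd.mpr h7).symm.pow_right 2)
        |>.dvd_of_dvd_mul_right hm2
      obtain ⟨h9, hfix⟩ := F.three s 4 (orderOf_dvd_iff_pow_eq_one.mp (hs.symm ▸ hm3))
      have hm9 : m ∣ 3 ^ 2 := hs ▸ orderOf_dvd_of_pow_eq_one h9
      obtain ⟨j, hj, rfl⟩ := (Nat.dvd_prime_pow (by norm_num : Nat.Prime 3)).mp hm9
      interval_cases j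
      · norm_num at h3
      · rcases (show k = 0 ∨ k = 1 ∨ k = 2 ∨ 3 ≤ k by omega) with rfl | rfl | rfl | hk
        · left; rw [hn]; decide
        · left; rw [hn]; decide
        · right
          refine hcrit ?_
          have hs1 : s ≠ 1 := fun e => by rw [e, orderOf_one] at hs; norm_num at hs
          refine cube_kill_three hK (A s) (A u) (by rw [← map_mul, ← map_mul, ((Commute.refl g).pow_pow _ _).eq]) ?_
            (fun e => hs1 (F.inj (e.trans (map_one A).symm))) ?_ (F.two u 2 huk).2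
          · rw [← map_pow, show s ^ 3 = 1 from hsm, map_one]
          · rw [← map_pow, show u ^ 4 = 1 from huk, map_one]
        · right
          refine hcrit fun w _ => ?_
          have : 2 ^ 3 ≤ 2 ^ k := Nat.pow_le_pow_right (by norm_num) hk
          rw [pow_eq_zero_of_le (by omega) (F.two u k huk).1, zero_mulVec]
      · right
        exact hfree (hfix fun e => by
          have := orderOf_dvd_of_pow_eq_one e
          rw [hs] at this
          norm_num at this)
  · have hm7 : m ∣ 7 ^ 2 := (((by norm_num : Nat.Prime 3).coprime_iff_not_dvd.mpr h3).symm.pow_right 4)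
        |>.dvd_of_dvd_mul_left hm2
    obtain ⟨h7', hW⟩ := F.seven s 2 (orderOf_dvd_iff_pow_eq_one.mp (hs.symm ▸ hm7))
    rcases (Nat.dvd_prime (by norm_num : Nat.Prime 7)).mp (hs ▸ orderOf_dvd_of_pow_eq_one h7') with rfl | rfl
    · rcases (show k ≤ 2 ∨ 3 ≤ k by omega) with hk | hk
      · left; rw [hn]; interval_cases k <;> decide
      · right
        refine hcrit fun w _ => ?_
        have : 2 ^ 3 ≤ 2 ^ k := Nat.pow_le_pow_right (by norm_num) hk
        rw [pow_eq_zero_of_le (by omega) (F.two u k huk).1, zero_mulVec]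
    · rcases (show k ≤ 1 ∨ k = 2 ∨ 3 ≤ k by omega) with hk | rfl | hk
      · left; rw [hn]; interval_cases k <;> decide
      · right
        refine hcrit (cube_kill_small hK (A s) (A u) ?_ ?_ (hW fun e => by rw [e, orderOf_one] at hs; norm_num at hs))
        · rw [← map_mul, ← map_mul, ((Commute.refl g).pow_pow _ _).eq]
        · rw [← map_pow, show u ^ 4 = 1 from huk, map_one]
      · right
        refine hcrit fun w _ => ?_
        have : 2 ^ 3 ≤ 2 ^ k := Nat.pow_le_pow_right (by norm_num) hk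
        rw [pow_eq_zero_of_le (by omega) (F.two u k huk).1, zero_mulVec]

end Cfsg.Lib.TriSpec
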