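import Cfsg.Agent.TriSpec.Check
import Cfsg.Agent.TriSpec.Grp
import Cfsg.Agent.TriSpec.Lin

/-!
The meaning of the checks.
-/

set_option autoImplicit false
set_option maxRecDepth 20000
set_option linter.unusedSectionVars false

namespace Cfsg.Lib.TriSpec

theorem nat_beq_iff (a b : ℕ) : Nat.beq a b = true ↔ a = b :=
  ⟨Nat.eq_of_beq_eq_true, fun h => by subst h; exact Nat.beq_refl _⟩

theorem nat_beq_false {a b : ℕ} (h : a ≠ b) : Nat.beq a b = false :=
  Bool.eq_false_iff.mpr fun e => h ((nat_beq_iff a b).mp e)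

/-- A faithful representation with eight coded generators. -/
structure Rep (G : Type*) [Group G] (K : Type*) [Field K] [CharP K 2] where
  /-- the representation -/
  A : G →* Matrix (Fin 8) (Fin 8) K
  /-- the root -/
  x : K
  hx : x ^ 3 = x + 1
  inj : Function.Injective A
  /-- the generators -/
  g : ℕ → G
  hg : ∀ k < 8, A (g k) = matC x (wordC (genW k))
  gen : Subgroup.closure {y | ∃ k < 8, g k = y} = ⊤

variable {G : Type*} [Group G] [Finite G] {K : Type*} [Field K] [CharP K 2] (R : Rep G K)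

/-- The element of a word. -/
def Rep.ev (R : Rep G K) : List ℕ → G
  | [] => 1
  | k :: w => R.g k * R.ev w

theorem Rep.A_ev (R : Rep G K) : ∀ w : List ℕ, (w.all fun k => Nat.blt k 8) = true → R.A (R.ev w) = matC R.x (evW w)
  | [], _ => by rw [Rep.ev, evW, map_one, matC_one]
  | k :: w, h => by
    simp only [List.all_cons, Bool.and_eq_true, Nat.blt_eq] at h
    rw [Rep.ev, evW, map_mul, R.hg k h.1, R.A_ev w (by simpa [List.all_eq_true] using h.2), matC_mul _ R.hx]

theorem sorted_injective {m : ℕ} (f : Fin m → ℕ) (s : Fin m → Fin m)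
    (h : ∀ i j : Fin m, (i : ℕ) + 1 = j → f (s i) < f (s j)) : Function.Injective f := by
  cases m with
  | zero => exact fun a => a.elim0
  | succ m =>
    have hm : StrictMono (f ∘ s) := Fin.strictMono_iff_lt_succ.mpr fun i => h _ _ (by simp)
    have hbs : Function.Bijective s := (Finite.injective_iff_bijective).mp hm.injective.of_comp
    intro a b e
    obtain ⟨a', rfl⟩ := hbs.2 a
    obtain ⟨b', rfl⟩ := hbs.2 b
    exact congrArg s (hm.injective e)

/-- A checked list is a subgroup. -/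
theorem exists_sub (D : SubData) (hn : 0 < D.n) (hgens : D.okGens = true)
    (hok : ∀ {i}, i < D.n → D.okAt i = true) :
    ∃ H : Subgroup G, Nat.card H = D.n ∧ ∀ g ∈ H, ∃ i < D.n, R.A g = matC R.x (D.elt.get i) := by
  simp only [SubData.okGens, Bool.and_eq_true, decide_eq_true_eq] at hgens
  obtain ⟨hg1, hg2⟩ := hgens
  have hok' : ∀ {i}, i < D.n → D.elt.get i < 2 ^ 192 ∧
      (∀ k < D.gcode.length, D.step i k < D.n ∧ mulC (D.elt.get i) (D.gcode.getD k 0) = D.elt.get (D.step i k)) ∧
      (if i = 0 then D.elt.get i = oneC else D.par.get i / 8 < i ∧ D.par.get i % 8 < D.gcode.length ∧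
        D.step (D.par.get i / 8) (D.par.get i % 8) = i) ∧
      D.srt.get i < D.n ∧ (i + 1 < D.n → D.elt.get (D.srt.get i) < D.elt.get (D.srt.get (i + 1))) := by
    intro i hi
    have h := hok hi
    simp only [SubData.okAt, Bool.and_eq_true, List.all_eq_true, List.mem_range, Nat.blt_eq,
      nat_beq_iff] at h
    obtain ⟨⟨⟨⟨h1, h2⟩, h3⟩, h4⟩, h5⟩ := h
    refine ⟨h1, fun k hk => h2 k hk, ?_, h4, fun hlt => ?_⟩
    · by_cases h0 : i = 0
      · subst h0
        rw [show Nat.beq 0 0 = true from rfl, cond_true, nat_beq_iff] at h3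
        rwa [if_pos rfl]
      · rw [if_neg h0]
        simp only [nat_beq_false h0, cond_false, Bool.and_eq_true, Nat.blt_eq, nat_beq_iff] at h3
        exact ⟨h3.1.1, h3.1.2, h3.2⟩
    · rw [(Nat.blt_eq.mpr hlt : Nat.blt (i + 1) D.n = true), cond_true, Nat.blt_eq] at h5
      exact h5
  let gw : ℕ → G := fun k => R.ev (D.gens.getD k [])
  have hgw : ∀ k < D.gcode.length, R.A (gw k) = matC R.x (D.gcode.getD k 0) := by
    intro k hk
    have hk' : k < D.gens.length := by rwa [← hg1, List.length_map] at hk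
    rw [R.A_ev]
    · congr 1
      simp [← hg1, hk']
    · refine List.all_eq_true.mp hg2 _ ?_
      simp [hk']
  let S : Set G := {y | ∃ k < D.gcode.length, gw k = y}
  have hex : ∀ i, i < D.n → ∃ e : G, e ∈ Submonoid.closure S ∧ R.A e = matC R.x (D.elt.get i) := by
    intro i
    induction i using Nat.strong_induction_on with
    | _ i ih =>
      intro hi
      obtain ⟨-, -, h3, -, -⟩ := hok' hi
      by_cases h0 : i = 0
      · rw [if_pos h0] at h3
        exact ⟨1, one_mem _, by rw [map_one, h3, matC_one]⟩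
      · rw [if_neg h0] at h3
        obtain ⟨hp, hk, hs⟩ := h3
        obtain ⟨e, he1, he2⟩ := ih _ hp (hp.trans hi)
        refine ⟨e * gw (D.par.get i % 8), mul_mem he1 (Submonoid.subset_closure ⟨_, hk, rfl⟩), ?_⟩
        rw [map_mul, he2, hgw _ hk, ← matC_mul _ R.hx, ((hok' (hp.trans hi)).2.1 _ hk).2, hs]
  choose e he1 he2 using hex
  let E : Fin D.n → G := fun i => e i i.2
  have hkey : Function.Injective fun i : Fin D.n => D.elt.get i :=
    sorted_injective _ (fun i => ⟨D.srt.get i, (hok' i.2).2.2.2.1⟩) fun i j hij => by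
      have := (hok' i.2).2.2.2.2 (by rw [hij]; exact j.2)
      simpa [hij] using this
  obtain ⟨H, hH1, hH2⟩ := exists_subgroup E (fun a b hab => hkey (matC_inj R.x R.hx (hok' a.2).1 (hok' b.2).1 (by
      rw [← he2 a a.2, ← he2 b b.2]; exact congrArg R.A hab))) ⟨0, hn⟩
    (R.inj (by
      have h0 := (hok' hn).2.2.1
      rw [if_pos rfl] at h0
      rw [map_one, ← matC_one R.x, ← h0]
      exact he2 0 hn)) S (by
      rintro _ ⟨k, hk, rfl⟩ i
      obtain ⟨hs1, hs2⟩ := (hok' i.2).2.1 k hk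
      exact ⟨⟨_, hs1⟩, R.inj (by rw [map_mul, he2, hgw k hk, he2, ← matC_mul _ R.hx, hs2])⟩)
    (fun i => he1 i i.2)
  refine ⟨H, hH1, fun g hg => ?_⟩
  obtain ⟨i, rfl⟩ := hH2 g hg
  exact ⟨i, i.2, he2 i i.2⟩

/-- A checked set of conjugates carries an action. -/
theorem exists_conj (D : ConjData) (hn : 0 < D.n) (hok : ∀ {i}, i < D.n → D.okAt i = true) :
    ∃ σ : G →* Equiv.Perm (Fin D.n),
      (∀ k < 8, ∀ i : Fin D.n, (σ (R.g k) i : ℕ) = D.step i k) ∧
      (∀ i, ∃ g, σ g ⟨0, hn⟩ = i) ∧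
      ∀ (y : G) (c : ℕ) (i j : Fin D.n), R.A y = matC R.x c →
        mulC (D.elt.get j) c = mulC c (D.elt.get i) → σ y i = j := by
  have hok' : ∀ {i}, i < D.n → D.elt.get i < 2 ^ 192 ∧
      (∀ k < 8, D.step i k < D.n ∧ mulC (D.elt.get (D.step i k)) (wordC (genW k)) = mulC (wordC (genW k)) (D.elt.get i)) ∧
      (if i = 0 then D.elt.get i = wordC (genW 0) else D.par.get i / 8 < i ∧
        D.step (D.par.get i / 8) (D.par.get i % 8) = i) ∧
      D.srt.get i < D.n ∧ (i + 1 < D.n → D.elt.get (D.srt.get i) < D.elt.get (D.srt.get (i + 1))) := by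
    intro i hi
    have h := hok hi
    simp only [ConjData.okAt, Bool.and_eq_true, List.all_eq_true, List.mem_range, Nat.blt_eq,
      nat_beq_iff] at h
    obtain ⟨⟨⟨⟨h1, h2⟩, h3⟩, h4⟩, h5⟩ := h
    refine ⟨h1, fun k hk => h2 k hk, ?_, h4, fun hlt => ?_⟩
    · by_cases h0 : i = 0
      · subst h0
        rw [show Nat.beq 0 0 = true from rfl, cond_true, nat_beq_iff] at h3
        rwa [if_pos rfl]
      · rw [if_neg h0]
        simp only [nat_beq_false h0, cond_false, Bool.and_eq_true, Nat.blt_eq, nat_beq_iff] at h3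
        exact ⟨h3.1, h3.2⟩
    · rw [(Nat.blt_eq.mpr hlt : Nat.blt (i + 1) D.n = true), cond_true, Nat.blt_eq] at h5
      exact h5
  have hex : ∀ i, i < D.n → ∃ z : G, R.A z = matC R.x (D.elt.get i) := by
    intro i
    induction i using Nat.strong_induction_on with
    | _ i ih =>
      intro hi
      obtain ⟨-, -, h3, -, -⟩ := hok' hi
      by_cases h0 : i = 0
      · rw [if_pos h0] at h3
        exact ⟨R.g 0, by rw [R.hg 0 (by norm_num), h3]⟩
      · rw [if_neg h0] at h3
        obtain ⟨hp, hs⟩ := h3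
        obtain ⟨z, hz⟩ := ih _ hp (hp.trans hi)
        have hk : D.par.get i % 8 < 8 := Nat.mod_lt _ (by norm_num)
        have he := ((hok' (hp.trans hi)).2.1 _ hk).2
        rw [hs] at he
        refine ⟨R.g (D.par.get i % 8) * z * (R.g (D.par.get i % 8))⁻¹, ?_⟩
        set g := R.g (D.par.get i % 8)
        calc R.A (g * z * g⁻¹) = R.A g * R.A z * R.A g⁻¹ := by rw [map_mul, map_mul]
          _ = matC R.x (D.elt.get i) * R.A g * R.A g⁻¹ := by
            rw [hz, R.hg _ hk, ← matC_mul _ R.hx, ← matC_mul _ R.hx, he]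
          _ = _ := by rw [mul_assoc, ← map_mul, mul_inv_cancel, map_one, mul_one]
  choose z hz using hex
  let s : Fin D.n → G := fun i => z i i.2
  have hs : Function.Injective s := by
    have hkey : Function.Injective fun i : Fin D.n => D.elt.get i :=
      sorted_injective _ (fun i => ⟨D.srt.get i, (hok' i.2).2.2.2.1⟩) fun i j hij => by
        have := (hok' i.2).2.2.2.2 (by rw [hij]; exact j.2)
        simpa [hij] using this
    exact fun a b hab => hkey (matC_inj R.x R.hx (hok' a.2).1 (hok' b.2).1 (by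
      rw [← hz a a.2, ← hz b b.2]; exact congrArg R.A hab))
  have hmove : ∀ (y : G) (c : ℕ) (i j : Fin D.n), R.A y = matC R.x c →
      mulC (D.elt.get j) c = mulC c (D.elt.get i) → y * s i * y⁻¹ = s j := by
    intro y c i j hy hc
    rw [mul_inv_eq_iff_eq_mul]
    exact R.inj (by rw [map_mul, map_mul, hy, hz, hz, ← matC_mul _ R.hx, ← matC_mul _ R.hx, hc])
  obtain ⟨σ, hσ⟩ := exists_perm (fun g b => g * b * g⁻¹) (fun b => by group) (fun a b c => by group)
    {y | ∃ k < 8, R.g k = y} R.gen s hs (by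
      rintro _ ⟨k, hk, rfl⟩ i
      exact ⟨⟨_, ((hok' i.2).2.1 k hk).1⟩, hmove _ _ i _ (R.hg k hk) ((hok' i.2).2.1 k hk).2⟩)
  have hσ' : ∀ (y : G) (c : ℕ) (i j : Fin D.n), R.A y = matC R.x c →
      mulC (D.elt.get j) c = mulC c (D.elt.get i) → σ y i = j := fun y c i j hy hc =>
    hs ((hσ y i).symm.trans (hmove y c i j hy hc))
  have hstep : ∀ k < 8, ∀ i : Fin D.n, (σ (R.g k) i : ℕ) = D.step i k := fun k hk i => by
    rw [hσ' _ _ i ⟨_, ((hok' i.2).2.1 k hk).1⟩ (R.hg k hk) ((hok' i.2).2.1 k hk).2]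
  refine ⟨σ, hstep, ?_, hσ'⟩
  suffices h : ∀ i (hi : i < D.n), ∃ g, σ g ⟨0, hn⟩ = ⟨i, hi⟩ from fun i => h i i.2
  intro i
  induction i using Nat.strong_induction_on with
  | _ i ih =>
    intro hi
    by_cases h0 : i = 0
    · subst h0
      exact ⟨1, by rw [map_one]; rfl⟩
    · have h3 := (hok' hi).2.2.1
      rw [if_neg h0] at h3
      obtain ⟨hp, hs'⟩ := h3
      obtain ⟨g, hg⟩ := ih _ hp (hp.trans hi)
      refine ⟨R.g (D.par.get i % 8) * g, Fin.ext ?_⟩
      rw [map_mul, Equiv.Perm.mul_apply, hg, hstep _ (Nat.mod_lt _ (by norm_num))]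
      exact hs'

/-- The points of stored bits. -/
def bitSet (n v : ℕ) : Set (Fin n) := {a | v.testBit a = true}

theorem testBit_bits3 (a b c k : ℕ) : (bits3 a b c).testBit k = (decide (k = a) || decide (k = b) || decide (k = c)) := by
  show ((1 <<< a) ||| ((1 <<< b) ||| (1 <<< c))).testBit k = _
  have h1 : ∀ a, (1 <<< a).testBit k = decide (k = a) := fun a => by
    rw [Nat.shiftLeft_eq, one_mul, Nat.testBit_two_pow]
    exact decide_eq_decide.mpr eq_comm
  rw [Nat.testBit_or, Nat.testBit_or, h1, h1, h1, Bool.or_assoc]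

theorem bits3_lt {n a b c : ℕ} (ha : a < n) (hb : b < n) (hc : c < n) : bits3 a b c < 2 ^ n := by
  refine Nat.lt_pow_two_of_testBit _ fun k hk => ?_
  rw [testBit_bits3]
  simp [show k ≠ a by omega, show k ≠ b by omega, show k ≠ c by omega]

theorem bitSet_bits3 {n : ℕ} (a b c : Fin n) : bitSet n (bits3 a b c) = {a, b, c} := by
  ext k
  simp [bitSet, testBit_bits3, Fin.ext_iff, or_assoc]

/-- The three points of a triple. -/
theorem exists_tri (D : ConjData) (T : TriData) (hn : 0 < T.n) (σ : G →* Equiv.Perm (Fin D.n))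
    (hσ : ∀ k < 8, ∀ i : Fin D.n, (σ (R.g k) i : ℕ) = D.step i k) (hok : ∀ {i}, i < T.n → T.okAt D i = true) :
    ∃ τ : G →* Equiv.Perm (Fin T.n), (∀ i, ∃ g, τ g ⟨0, hn⟩ = i) ∧
      ∀ (y : G) (f : ℕ → ℕ), (∀ a : Fin D.n, (σ y a : ℕ) = f a) → ∀ i : Fin T.n,
        (τ y i = i ↔ triBits f (T.tri.get i) = triBits id (T.tri.get i)) := by
  have hok' : ∀ {i}, i < T.n → (T.tri.get i / 1048576 < D.n ∧ T.tri.get i / 1024 % 1024 < D.n ∧ T.tri.get i % 1024 < D.n) ∧
      (∀ k < 8, T.step i k < T.n ∧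
        triBits (fun a => D.step a k) (T.tri.get i) = triBits id (T.tri.get (T.step i k))) ∧
      (i ≠ 0 → T.par.get i / 8 < i ∧ T.step (T.par.get i / 8) (T.par.get i % 8) = i) ∧
      T.srt.get i < T.n ∧
      (i + 1 < T.n → triBits id (T.tri.get (T.srt.get i)) < triBits id (T.tri.get (T.srt.get (i + 1)))) := by
    intro i hi
    have h := hok hi
    simp only [TriData.okAt, Bool.and_eq_true, Bool.or_eq_true, List.all_eq_true, List.mem_range, Nat.blt_eq,
      nat_beq_iff] at h
    obtain ⟨⟨⟨⟨⟨⟨h0, h0'⟩, h0''⟩, h2⟩, h3⟩, h4⟩, h5⟩ := h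
    refine ⟨⟨h0, h0', h0''⟩, fun k hk => h2 k hk, fun hne => h3.resolve_left hne, h4, fun hlt => ?_⟩
    rw [(Nat.blt_eq.mpr hlt : Nat.blt (i + 1) T.n = true), cond_true, Nat.blt_eq] at h5
    exact h5
  let p : Fin T.n → Fin 3 → Fin D.n := fun i => ![⟨_, (hok' i.2).1.1⟩, ⟨_, (hok' i.2).1.2.1⟩, ⟨_, (hok' i.2).1.2.2⟩]
  let s : Fin T.n → Set (Fin D.n) := fun i => {p i 0, p i 1, p i 2}
  have hsb : ∀ i, s i = bitSet D.n (triBits id (T.tri.get i)) := fun i => (bitSet_bits3 (p i 0) (p i 1) (p i 2)).symm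
  have himg : ∀ (y : G) (f : ℕ → ℕ), (∀ a : Fin D.n, (σ y a : ℕ) = f a) → ∀ i,
      (σ y) '' s i = bitSet D.n (triBits f (T.tri.get i)) ∧ triBits f (T.tri.get i) < 2 ^ D.n := by
    intro y f hf i
    have e : triBits f (T.tri.get i) = bits3 (σ y (p i 0)) (σ y (p i 1)) (σ y (p i 2)) := by
      rw [hf, hf, hf]; rfl
    rw [e, bitSet_bits3]
    exact ⟨by simp only [s, Set.image_insert_eq, Set.image_singleton], bits3_lt (Fin.is_lt _) (Fin.is_lt _) (Fin.is_lt _)⟩
  have hlt : ∀ i : Fin T.n, triBits id (T.tri.get i) < 2 ^ D.n := fun i =>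
    bits3_lt (p i 0).2 (p i 1).2 (p i 2).2
  have hbinj : ∀ v w, v < 2 ^ D.n → w < 2 ^ D.n → bitSet D.n v = bitSet D.n w → v = w := by
    intro v w hv hw e
    refine Nat.eq_of_testBit_eq fun k => ?_
    by_cases hk : k < D.n
    · have := Set.ext_iff.mp e ⟨k, hk⟩
      exact Bool.eq_iff_iff.mpr this
    · rw [Nat.testBit_lt_two_pow (lt_of_lt_of_le hv (Nat.pow_le_pow_right (by norm_num) (not_lt.mp hk))),
        Nat.testBit_lt_two_pow (lt_of_lt_of_le hw (Nat.pow_le_pow_right (by norm_num) (not_lt.mp hk)))]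
  have hs : Function.Injective s := by
    have hkey : Function.Injective fun i : Fin T.n => triBits id (T.tri.get i) :=
      sorted_injective _ (fun i => ⟨T.srt.get i, (hok' i.2).2.2.2.1⟩) fun i j hij => by
        have := (hok' i.2).2.2.2.2 (by rw [hij]; exact j.2)
        simpa [hij] using this
    exact fun a b hab => hkey (hbinj _ _ (hlt a) (hlt b) (by rw [← hsb, ← hsb, hab]))
  have hmove : ∀ k (hk : k < 8) (i : Fin T.n), (σ (R.g k)) '' s i = s ⟨_, ((hok' i.2).2.1 k hk).1⟩ := fun k hk i =>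
    (himg _ (fun a => D.step a k) (hσ k hk) i).1.trans
      ((congrArg (bitSet D.n) ((hok' i.2).2.1 k hk).2).trans (hsb ⟨_, ((hok' i.2).2.1 k hk).1⟩).symm)
  obtain ⟨τ, hτ⟩ := exists_perm (fun g (b : Set (Fin D.n)) => (σ g) '' b) (fun b => by simp)
    (fun a b c => by rw [map_mul, Equiv.Perm.coe_mul, Set.image_comp])
    {y | ∃ k < 8, R.g k = y} R.gen s hs (by
      rintro _ ⟨k, hk, rfl⟩ i
      exact ⟨_, hmove k hk i⟩)
  refine ⟨τ, ?_, fun y f hf i => ?_⟩
  · suffices h : ∀ i (hi : i < T.n), ∃ g, τ g ⟨0, hn⟩ = ⟨i, hi⟩ from fun i => h i i.2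
    intro i
    induction i using Nat.strong_induction_on with
    | _ i ih =>
      intro hi
      by_cases h0 : i = 0
      · subst h0
        exact ⟨1, by rw [map_one]; rfl⟩
      · obtain ⟨hp, hs'⟩ := (hok' hi).2.2.1 h0
        obtain ⟨g, hg⟩ := ih _ hp (hp.trans hi)
        refine ⟨R.g (T.par.get i % 8) * g, ?_⟩
        rw [map_mul, Equiv.Perm.mul_apply, hg]
        refine hs ((hτ _ _).symm.trans ((hmove _ (Nat.mod_lt _ (by norm_num)) _).trans ?_))
        exact congrArg s (Fin.ext hs')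
  · obtain ⟨h1, h2⟩ := himg y f hf i
    constructor
    · intro h
      refine hbinj _ _ h2 (hlt i) ?_
      rw [← h1, hτ, h, hsb]
    · intro h
      refine hs ?_
      rw [← hτ, h1, h, hsb]

theorem countR_eq (f : ℕ → Bool) : ∀ n, countR f n = (Finset.univ.filter fun i : Fin n => f i = true).card
  | 0 => by simp [countR]
  | n + 1 => by
    rw [countR, countR_eq f n, Finset.card_filter, Finset.card_filter, Fin.sum_univ_castSucc]
    simp only [Fin.val_castSucc, Fin.val_last]
    rcases Bool.eq_false_or_eq_true (f n) with hh | hh <;> simp [hh, add_comm]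

/-- A certificate of no fixed vectors. -/
theorem fixFree_of_freeC {A q : ℕ} (h : freeC A q = true) : FixFree (matC R.x A) := by
  intro v hv
  have e : matC R.x (mulC q (Nat.xor A oneC)) = 1 := by
    rw [Nat.eq_of_beq_eq_true h, matC_one]
  have e0 : matC R.x (Nat.xor A oneC) = matC R.x A + 1 := by
    ext i j
    have e : colC (Nat.xor A oneC) j = Nat.xor (colC A j) (colC oneC j) := by
      refine Nat.eq_of_testBit_eq fun k => ?_
      simp only [show ∀ a b, Nat.xor a b = a ^^^ b from fun _ _ => rfl, testBit_colC, Nat.testBit_xor]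
      cases decide (k < 24) <;> simp
    rw [← matC_one R.x]
    simp only [matC, Matrix.of_apply, Matrix.add_apply, e, vecC_xor, Pi.add_apply]
  calc v = (1 : Matrix (Fin 8) (Fin 8) K).mulVec v := (Matrix.one_mulVec v).symm
    _ = (matC R.x q).mulVec ((matC R.x A + 1).mulVec v) := by
      rw [Matrix.mulVec_mulVec, ← e0, ← matC_mul _ R.hx, e]
    _ = 0 := by
      rw [Matrix.add_mulVec, hv, Matrix.one_mulVec]
      have : v + v = 0 := funext fun i => CharTwo.add_self_eq_zero (v i)
      rw [this, Matrix.mulVec_zero]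

/-- A certificate of at most two free coordinates. -/
theorem card_fix_of_twoC [Fintype K] (hK : Fintype.card K = 8) {A c : ℕ} (h : twoC A c = true) :
    Nat.card (fixSet (matC R.x A)) ≤ 64 := by
  simp only [twoC, List.all_eq_true, List.mem_range, Bool.or_eq_true,
    nat_beq_iff] at h
  set a : Fin 8 := ⟨c / 8 % 8, Nat.mod_lt _ (by norm_num)⟩
  set b : Fin 8 := ⟨c % 8, Nat.mod_lt _ (by norm_num)⟩
  set Q := matC R.x (Nat.div c 64)
  have e0 : matC R.x (Nat.xor A oneC) = matC R.x A + 1 := by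
    ext i j
    have e : colC (Nat.xor A oneC) j = Nat.xor (colC A j) (colC oneC j) := by
      refine Nat.eq_of_testBit_eq fun k => ?_
      simp only [show ∀ a b, Nat.xor a b = a ^^^ b from fun _ _ => rfl, testBit_colC, Nat.testBit_xor]
      cases decide (k < 24) <;> simp
    rw [← matC_one R.x]
    simp only [matC, Matrix.of_apply, Matrix.add_apply, e, vecC_xor, Pi.add_apply]
  set P := mulC (Nat.div c 64) (Nat.xor A oneC)
  have key : ∀ v, (matC R.x A).mulVec v = v → v a = 0 → v b = 0 → v = 0 := by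
    intro v hv ha hb
    have h0 : (matC R.x P).mulVec v = 0 := by
      rw [matC_mul _ R.hx, e0, ← Matrix.mulVec_mulVec, Matrix.add_mulVec, hv, Matrix.one_mulVec,
        show v + v = 0 from funext fun i => CharTwo.add_self_eq_zero (v i), Matrix.mulVec_zero]
    funext i
    have := congrFun h0 i
    rw [Pi.zero_apply] at this
    simp only [Matrix.mulVec, dotProduct] at this
    rw [Finset.sum_congr rfl (g := fun j => if j = i then v j else 0)] at this
    · simpa using this
    · intro j _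
      by_cases hj : j = a ∨ j = b
      · rcases hj with rfl | rfl <;> simp [ha, hb]
      · push Not at hj
        have hcol : colC P j = 2 ^ (j : ℕ) := by
          rcases h j j.2 with (h1 | h1) | h1
          · exact absurd (Fin.ext h1) hj.1
          · exact absurd (Fin.ext h1) hj.2
          · exact h1
        have hone : matC R.x P i j = if j = i then 1 else 0 := by
          have e1 : ∀ j : Fin 8, colC oneC j = 2 ^ (j : ℕ) := by decide +kernel
          have e2 : matC R.x P i j = matC R.x oneC i j := by rw [matC, matC, Matrix.of_apply, Matrix.of_apply, hcol, e1]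
          rw [e2, matC_one, Matrix.one_apply]
          simp only [eq_comm]
        rw [hone, ite_mul, one_mul, zero_mul]
  have : Nat.card (fixSet (matC R.x A)) ≤ Nat.card (K × K) := by
    refine Nat.card_le_card_of_injective (fun v => (v.1 a, v.1 b)) fun v w e => Subtype.ext (sub_eq_zero.mp ?_)
    simp only [Prod.mk.injEq] at e
    refine key _ ?_ (by rw [Pi.sub_apply, e.1, sub_self]) (by rw [Pi.sub_apply, e.2, sub_self])
    rw [Matrix.mulVec_sub, v.2, w.2]
  simpa [Nat.card_prod, Nat.card_eq_fintype_card (α := K), hK] using this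

end Cfsg.Lib.TriSpec
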