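import Cfsg.Agent.TriSpec.Hom
import Cfsg.Agent.TriSpec.Sem
import Cfsg.Agent.TriSpec.CertTwo
import Cfsg.Agent.TriSpec.CertOdd
import Cfsg.Agent.TriSpec.CertGeo

/-!
The eight dimensional representation of `³D₄(2)` satisfies the required facts.
-/

set_option autoImplicit false
set_option maxRecDepth 20000
set_option linter.unusedSectionVars false

namespace Cfsg.Lib.TriSpec

open Cfsg.Lie Cfsg.Lib.TriSpec.Data

attribute [local irreducible] Tr.get evW powC mulC matC

variable {K : Type*} [Field K] [Fintype K]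

theorem genW_ok : ∀ k : Fin 8, ∀ p ∈ genW k, p.1 < 24 ∧ p.2 < 8 := by decide +kernel

theorem tripW_ok : ∀ s : Fin 2, ∀ t : Fin 8, ∀ p ∈ tripW s t, p.1 < 24 ∧ p.2 < 8 := by decide +kernel

theorem genW_form : ∀ k : Fin 8, genW k = [(14, 1)] ∨ genW k = [(9, 1)] ∨
    ∃ s : Fin 2, ∃ t : Fin 8, genW k = tripW s t := by decide +kernel

theorem exists_rep8 (hK : Fintype.card K = 8) :
    ∃ _ : CharP K 2, Nonempty (Rep (↥(twistedD4 K 2)) K) := by
  obtain ⟨hc, x, hx⟩ := exists_root K hK
  haveI := hc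
  obtain ⟨A, hA, hw⟩ := exists_rep K x
  let S : Cfsg.Lib.Chev.Struct chevD4 Cfsg.Lib.Chev.D4.cert := Cfsg.Lib.Chev.D4.struct
  have el0 : elC x 0 = 0 := by simp [elC, bitK]
  have el1 : elC x 1 = 1 := by simp [elC, bitK, Nat.testBit_eq_decide_div_mod_eq]
  have htrip : ∀ s : Fin 2, ∀ t : Fin 8, (tripW s t).map (fun p => (p.1, elC x p.2)) ∈ d4Words K 2 := by
    intro s t
    right
    refine ⟨elC x t, ?_⟩
    have e2 : elC x (sqC (sqC t)) = elC x t ^ (2 ^ 2) := by
      rw [show sqC (sqC t) = sqC ((⟨sqC t, sqC_lt t⟩ : Fin 8) : ℕ) from rfl, elC_sq x hx, elC_sq x hx, ← pow_mul]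
      rfl
    fin_cases s
    · exact ⟨(d4p1, d4p3, d4p4), by simp, by simp [tripW, d4p1, d4p3, d4p4, elC_sq x hx, e2]⟩
    · exact ⟨(d4m1, d4m3, d4m4), by simp, by simp [tripW, d4m1, d4m3, d4m4, elC_sq x hx, e2]⟩
  have hword : ∀ k : Fin 8, (genW k).map (fun p => (p.1, elC x p.2)) ∈ d4Words K 2 := by
    intro k
    rcases genW_form k with h | h | ⟨s, t, h⟩ <;> rw [h]
    · exact Or.inl ⟨1, one_pow 2, 14, by simp [d4p2], by simp [el1]⟩
    · exact Or.inl ⟨1, one_pow 2, 9, by simp [d4m2], by simp [el1]⟩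
    · exact htrip s t
  have hmem : ∀ k : Fin 8, S.ok.wG ((genW k).map fun p => (p.1, elC x p.2)) ∈ twistedD4 K 2 := fun k => by
    rw [twistedD4, S.genSubgroup_eq]
    exact Subgroup.subset_closure ⟨_, hword k, rfl⟩
  let g : ℕ → ↥(twistedD4 K 2) := fun k => if h : k < 8 then ⟨_, hmem ⟨k, h⟩⟩ else 1
  have hg : ∀ k < 8, A (g k) = matC x (wordC (genW k)) := by
    intro k hk
    refine hw _ (genW_ok ⟨k, hk⟩) _ ?_ hx
    simp only [g, dif_pos hk]
    exact S.val_wG _
  refine ⟨hc, ⟨⟨A, x, hx, hA, g, hg, ?_⟩⟩⟩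
  set S8 : Set ↥(twistedD4 K 2) := {y | ∃ k < 8, g k = y}
  refine eq_top_iff.2 ?_
  have hev : ∀ w : List ℕ, (w.all fun k => Nat.blt k 8) = true →
      ∃ y ∈ Subgroup.closure S8, A y = matC x (evW w) := by
    intro w
    induction w with
    | nil => exact fun _ => ⟨1, one_mem _, by rw [map_one, evW, matC_one]⟩
    | cons k w ih =>
      intro h
      simp only [List.all_cons, Bool.and_eq_true, Nat.blt_eq] at h
      obtain ⟨y, hy, hy'⟩ := ih (by simpa [List.all_eq_true] using h.2)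
      exact ⟨g k * y, mul_mem (Subgroup.subset_closure ⟨k, h.1, rfl⟩) hy,
        by rw [map_mul, hg k h.1, hy', evW, matC_mul x hx]⟩
  have hcl : twistedD4 K 2 ≤ (Subgroup.closure S8).map (twistedD4 K 2).subtype := by
    conv_lhs => rw [twistedD4]
    refine (Subgroup.closure_le _).2 ?_
    intro y hy
    obtain ⟨w, hwd, hval⟩ := hy
    have hy : y ∈ twistedD4 K 2 := Subgroup.subset_closure ⟨w, hwd, hval⟩
    refine ⟨⟨y, hy⟩, ?_, rfl⟩
    rcases hwd with ⟨t, ht, r, hr, rfl⟩ | ⟨t, rs, hrs, rfl⟩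
    · have ht' : t = 0 ∨ t = 1 := by
        have : t * (t - 1) = 0 := by linear_combination ht
        exact (mul_eq_zero.mp this).imp id sub_eq_zero.mp
      rcases ht' with rfl | rfl
      · have e : y = 1 := by
          refine Units.ext (hval.trans ?_)
          rw [ChevalleyDatum.wordMat, List.map_singleton, List.prod_singleton]
          rw [← S.ok.val_xG, S.ok.xG_zero]
        rw [show (⟨y, hy⟩ : twistedD4 K 2) = 1 from Subtype.ext e]
        exact one_mem _
      · simp only [d4p2, d4m2, List.mem_cons, List.not_mem_nil, or_false] at hr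
        rcases hr with rfl | rfl
        · refine Subgroup.subset_closure ⟨0, by norm_num, hA ?_⟩
          rw [hg 0 (by norm_num), hw _ (genW_ok 0) ⟨y, hy⟩ (by rw [hval]; simp [genW, el1]) hx]
          rfl
        · refine Subgroup.subset_closure ⟨1, by norm_num, hA ?_⟩
          rw [hg 1 (by norm_num), hw _ (genW_ok 1) ⟨y, hy⟩ (by rw [hval]; simp [genW, el1]) hx]
          rfl
    · obtain ⟨a, rfl⟩ := exists_elC x hK hx t
      simp only [d4p1, d4p3, d4p4, d4m1, d4m3, d4m4, List.mem_cons, List.not_mem_nil, or_false] at hrs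
      obtain ⟨s, hs⟩ : ∃ s : Fin 2, A ⟨y, hy⟩ = matC x (wordC (tripW s a)) := by
        have e2 : elC x (sqC (sqC a)) = elC x a ^ (2 ^ 2) := by
          rw [show sqC (sqC a) = sqC ((⟨sqC a, sqC_lt a⟩ : Fin 8) : ℕ) from rfl, elC_sq x hx, elC_sq x hx, ← pow_mul]
          rfl
        rcases hrs with rfl | rfl
        · exact ⟨0, hw _ (tripW_ok 0 a) _ (by rw [hval]; simp [tripW, elC_sq x hx, e2]) hx⟩
        · exact ⟨1, hw _ (tripW_ok 1 a) _ (by rw [hval]; simp [tripW, elC_sq x hx, e2]) hx⟩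
      obtain ⟨z, hz, hz'⟩ := hev _ (Cert.gens_span s a).2
      rw [← (Cert.gens_span s a).1] at hz'
      exact hA (hs.trans hz'.symm) ▸ hz
  intro y _
  obtain ⟨z, hz, e⟩ := hcl y.2
  rw [← show z = y from Subtype.ext e]
  exact hz

theorem card_eq (hK : Fintype.card K = 8) : Nat.card (twistedD4 K 2) = 2 ^ 12 * (3 ^ 4 * 7 ^ 2 * 13) := by
  rw [Cfsg.Lib.Chev.D4.twOrder (q := 2) Nat.prime_two.isPrimePow (by rw [hK]; rfl)]
  norm_num

variable [CharP K 2]

theorem evW_getD (l : List (List ℕ)) (k : ℕ) (h : k < l.length) : (l.map evW).getD k 0 = evW (l.getD k []) := by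
  simp [h]

set_option maxHeartbeats 1000000 in
/-- The facts. -/
theorem facts {G : Type*} [Group G] [Finite G] (R : Rep G K) (hK : Fintype.card K = 8)
    (hG : Nat.card G = 2 ^ 12 * (3 ^ 4 * 7 ^ 2 * 13)) : Facts R.A := by
  haveI : Fact (Nat.Prime 2) := ⟨Nat.prime_two⟩
  haveI : Fact (Nat.Prime 3) := ⟨by norm_num⟩
  haveI : Fact (Nat.Prime 7) := ⟨by norm_num⟩
  haveI : Fact (Nat.Prime 13) := ⟨by norm_num⟩
  have hmat1 : ∀ y : G, R.A y = matC R.x oneC → y = 1 := fun y h => R.inj (by rw [h, matC_one, map_one])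
  have hxor : ∀ c, matC R.x (Nat.xor c oneC) = matC R.x c - 1 := fun c => by
    rw [matC_xor, matC_one, CharTwo.sub_eq_add]
  have hconj : ∀ (c y : G), R.A (c * y * c⁻¹) = R.A c * R.A y * R.A c⁻¹ := fun c y => by rw [map_mul, map_mul]
  have hinv : ∀ c : G, R.A c⁻¹ * R.A c = 1 ∧ R.A c * R.A c⁻¹ = 1 := fun c =>
    ⟨by rw [← map_mul, inv_mul_cancel, map_one], by rw [← map_mul, mul_inv_cancel, map_one]⟩
  have hfree : ∀ (c y : G), FixFree (R.A (c * y * c⁻¹)) → FixFree (R.A y) := fun c y h => by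
    have := h.conj (c := R.A c⁻¹) (c' := R.A c) (hinv c).2 (hinv c).1
    rwa [← map_mul, ← map_mul, show c⁻¹ * (c * y * c⁻¹) * c = y by group] at this
  have hcardfix : ∀ (c y : G), Nat.card (fixSet (R.A y)) ≤ Nat.card (fixSet (R.A (c * y * c⁻¹))) := fun c y => by
    refine Nat.card_le_card_of_injective (fun v => ⟨(R.A c).mulVec v.1, ?_⟩) fun v w e => ?_
    · show (R.A (c * y * c⁻¹)).mulVec ((R.A c).mulVec v.1) = (R.A c).mulVec v.1
      rw [Matrix.mulVec_mulVec, ← map_mul, inv_mul_cancel_right, map_mul, ← Matrix.mulVec_mulVec, v.2]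
    · have := congrArg (fun z => (R.A c⁻¹).mulVec z.1) e
      simp only [Matrix.mulVec_mulVec, (hinv c).1, Matrix.one_mulVec] at this
      exact Subtype.ext this
  obtain ⟨H2, hH2, hE2⟩ := exists_sub R twoS (by decide) Cert.two_gens fun hi => Cert.two_ok hi
  obtain ⟨H3, hH3, hE3⟩ := exists_sub R threeS (by decide) Cert.odd_gens.1 fun hi => Cert.three_ok hi
  obtain ⟨H7, hH7, hE7⟩ := exists_sub R sevenS (by decide) Cert.odd_gens.2.1 fun hi => Cert.seven_ok hi
  obtain ⟨H13, hH13, hE13⟩ := exists_sub R thirteenS (by decide) Cert.odd_gens.2.2 fun hi => Cert.thirteen_ok hi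
  have key3 : ∀ (y : G) (k : ℕ), y ^ 3 ^ k = 1 → ∃ (c : G) (i : ℕ), i < 81 ∧
      R.A (c * y * c⁻¹) = matC R.x (threeS.elt.get i) := fun y k hy => by
    obtain ⟨c, hc⟩ := exists_conj_mem H3 (p := 3) (e := 4) (by rw [hH3]; rfl) (by rw [hG]; decide) hy
    obtain ⟨i, hi, e⟩ := hE3 _ hc
    exact ⟨c, i, hi, e⟩
  obtain ⟨hr1, hr2, hz1, hz2, hz3, hz4, ht1, ht2, ht3, ht4, hz5, ht5, hr3, hr4⟩ := Cert.odd_sundry
  obtain ⟨σ, hσg, hσt, hσc⟩ := exists_conj R zS (by decide) fun hi => Cert.z_ok hi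
  obtain ⟨τ, hτt, hτc⟩ := exists_tri R zS triS (by decide) σ hσg fun hi => Cert.tri_ok hi
  set t0 := R.ev (repW.getD 0 [])
  set t1 := R.ev (repW.getD 1 [])
  have hrlen : repW.length = 2 := by decide
  have hrep : ∀ k < 2, R.A (R.ev (repW.getD k [])) = matC R.x (repC.getD k 0) := fun k hk => by
    rw [R.A_ev _ (List.all_eq_true.mp hr2 _ (by simp [hrlen, hk])), ← hr1, evW_getD _ _ (by rw [hrlen]; exact hk)]
  have hA7 : ∀ w c, evW w = c → (w.all fun k => Nat.blt k 8) = true → powC c 7 = oneC → c ≠ oneC → c < 2 ^ 192 →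
      orderOf (R.ev w) = 7 := fun w c e hwk h7 hne hlt => by
    refine orderOf_eq_prime (hmat1 _ (by rw [map_pow, R.A_ev w hwk, e, ← matC_pow _ R.hx, h7])) fun h1 => hne ?_
    refine matC_inj R.x R.hx hlt (by decide) ?_
    rw [← e, ← R.A_ev w hwk, h1, map_one, matC_one]
  have hz7 := hA7 _ _ hz1 hz4 hz3 hz5 (by decide)
  have ht7 := hA7 _ _ ht1 ht4 ht3 ht5 (by decide)
  have hzfree : FixFree (R.A (R.ev hzW)) := by rw [R.A_ev _ hz4, hz1]; exact fixFree_of_freeC R hz2
  have htfree : FixFree (R.A (R.ev htW)) := by rw [R.A_ev _ ht4, ht1]; exact fixFree_of_freeC R ht2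
  have hpowfree : ∀ (h r : G), orderOf h = 7 → FixFree (R.A h) → r ^ 7 = 1 → r ≠ 1 →
      (∃ c : G, ∃ j : ℕ, r = c * h ^ j * c⁻¹) → FixFree (R.A r) := by
    rintro h r hh hf hr hr1' ⟨c, j, rfl⟩
    refine hfree c⁻¹ _ ?_
    rw [show c⁻¹ * (c * h ^ j * c⁻¹) * c⁻¹⁻¹ = h ^ j by group]
    have hj : j.Coprime 7 := by
      refine Nat.Coprime.symm ((by norm_num : Nat.Prime 7).coprime_iff_not_dvd.mpr fun ⟨l, hl⟩ => hr1' ?_)
      rw [hl, pow_mul, ← hh, pow_orderOf_eq_one, one_pow, mul_one, mul_inv_cancel]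
    obtain ⟨l, hl⟩ : ∃ l, (h ^ j) ^ l = h := exists_pow_eq_self_of_coprime (hh ▸ hj)
    rw [← hl, map_pow] at hf
    exact hf.of_pow
  refine ⟨R.inj, hG.dvd, ?_, ?_, ?_, ?_, ?_⟩
  · intro u k hu
    obtain ⟨c, hc⟩ := exists_conj_mem H2 (p := 2) (e := 12) (by rw [hH2]; rfl) (by rw [hG]; decide) hu
    obtain ⟨i, hi, e⟩ := hE2 _ hc
    have hp := Cert.two_prop hi
    simp only [twoAt, Bool.and_eq_true, Bool.or_eq_true, nat_beq_iff] at hp
    obtain ⟨h7, h3⟩ := hp
    generalize twoS.elt.get i = c2 at h7 h3 e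
    have hN : ∀ n, (matC R.x c2 - 1) ^ n = 0 → (R.A u - 1) ^ n = 0 := fun n h => by
      have hu' : R.A u - 1 = R.A c⁻¹ * (matC R.x c2 - 1) * R.A c := by
        rw [← e, mul_sub, sub_mul, mul_one, (hinv c).1, ← map_mul, ← map_mul,
          show c⁻¹ * (c * u * c⁻¹) * c = u by group]
      have : SemiconjBy (R.A c⁻¹) (matC R.x c2 - 1) (R.A u - 1) := by
        show _ = _
        rw [hu', mul_assoc _ (R.A c) (R.A c⁻¹), (hinv c).2, mul_one]
      have hh := (this.pow_right n).eq
      rw [h, mul_zero] at hh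
      calc (R.A u - 1) ^ n = (R.A u - 1) ^ n * R.A c⁻¹ * R.A c := by rw [mul_assoc, (hinv c).1, mul_one]
        _ = 0 := by rw [← hh, zero_mul]
    have hzero : matC R.x 0 = 0 := by
      ext a b; simp [matC, colC, vecC, bitK]
    refine ⟨hN 7 ?_, ?_⟩
    · have := congrArg (matC R.x) h7
      simp only [matC_mul _ R.hx, hxor, hzero] at this
      rw [← this]
      noncomm_ring
    · rcases h3 with h3 | h3
      · left
        refine hN 3 ?_
        have := congrArg (matC R.x) h3
        simp only [matC_mul _ R.hx, hxor, hzero] at this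
        rw [← this]
        noncomm_ring
      · right
        refine (hcardfix c u).trans ?_
        rw [e]
        exact card_fix_of_twoC R hK h3
  · intro s k hs
    obtain ⟨c, i, hi, e⟩ := key3 s k hs
    have hp := Cert.three_prop hi
    simp only [threeAt, Bool.and_eq_true, nat_beq_iff] at hp
    obtain ⟨h9, hrest⟩ := hp
    refine ⟨?_, fun h3 => ?_⟩
    · have : (c * s * c⁻¹) ^ 9 = 1 := hmat1 _ (by rw [map_pow, e, ← matC_pow _ R.hx, h9])
      rw [conj_pow, mul_inv_eq_one] at this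
      exact mul_left_cancel (this.trans (mul_one c).symm)
    · have hne : powC (threeS.elt.get i) 3 ≠ oneC := fun h => h3 (by
        have : (c * s * c⁻¹) ^ 3 = 1 := hmat1 _ (by rw [map_pow, e, ← matC_pow _ R.hx, h])
        rw [conj_pow, mul_inv_eq_one] at this
        exact mul_left_cancel (this.trans (mul_one c).symm))
      rw [nat_beq_false hne, cond_false] at hrest
      refine hfree c s ?_
      rw [e]
      exact fixFree_of_freeC R hrest
  · intro s k hs
    obtain ⟨c, hc⟩ := exists_conj_mem H7 (p := 7) (e := 2) (by rw [hH7]; rfl) (by rw [hG]; decide) hs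
    obtain ⟨i, hi, e⟩ := hE7 _ hc
    have hp := Cert.seven_prop hi
    simp only [sevenAt, Bool.and_eq_true, Bool.or_eq_true, nat_beq_iff] at hp
    rcases hp with hp | ⟨h7, hW⟩
    · rw [hp] at e
      have := hmat1 _ e
      rw [mul_inv_eq_one] at this
      obtain rfl : s = 1 := mul_left_cancel (this.trans (mul_one c).symm)
      exact ⟨one_pow 7, fun h => absurd rfl h⟩
    · refine ⟨?_, fun _ => (hcardfix c s).trans (by rw [e]; exact card_fix_of_twoC R hK hW)⟩
      have : (c * s * c⁻¹) ^ 7 = 1 := hmat1 _ (by rw [map_pow, e, ← matC_pow _ R.hx, h7])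
      rw [conj_pow, mul_inv_eq_one] at this
      exact mul_left_cancel (this.trans (mul_one c).symm)
  · intro s hs hne
    obtain ⟨c, hc⟩ := exists_conj_mem H13 (p := 13) (e := 1) (by rw [hH13]; rfl) (by rw [hG]; decide)
      (k := 1) (by rw [pow_one]; exact hs)
    obtain ⟨i, hi, e⟩ := hE13 _ hc
    have hp := Cert.thirteen_prop hi
    simp only [thirteenAt, Bool.or_eq_true, nat_beq_iff] at hp
    rcases hp with hp | hp
    · rw [hp] at e
      have := hmat1 _ e
      rw [mul_inv_eq_one] at this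
      exact absurd (mul_left_cancel (this.trans (mul_one c).symm)) hne
    · refine hfree c s ?_
      rw [e]
      exact fixFree_of_freeC R hp
  · intro t r ht htne hr hrne hrt v _ hv
    suffices h : FixFree (R.A r) from h v hv
    obtain ⟨c, i, hi, e⟩ := key3 t 1 (by rw [pow_one]; exact ht)
    have hp := Cert.three_prop hi
    simp only [threeAt, Bool.and_eq_true, nat_beq_iff] at hp
    obtain ⟨-, hrest⟩ := hp
    have h31 : powC (threeS.elt.get i) 3 = oneC := by
      have hlt : threeS.elt.get i < 2 ^ 192 := by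
        have h := Cert.three_ok hi
        simp only [SubData.okAt, Bool.and_eq_true, Nat.blt_eq] at h
        exact h.1.1.1.1
      have hpl : powC (threeS.elt.get i) 3 < 2 ^ 192 := by
        have hl : ∀ A B, mulC A B < 2 ^ 192 := fun A B => by
          refine Nat.lt_pow_two_of_testBit _ fun n hn => ?_
          obtain ⟨q, l, hl, rfl⟩ : ∃ q l, l < 24 ∧ n = 24 * q + l :=
            ⟨n / 24, n % 24, Nat.mod_lt _ (by norm_num), (Nat.div_add_mod n 24).symm⟩
          rw [mulC, testBit_packC _ (by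
            intro d hd
            simp only [List.mem_cons, List.not_mem_nil, or_false] at hd
            rcases hd with rfl | rfl | rfl | rfl | rfl | rfl | rfl | rfl <;> exact applyC_lt _ _) q l hl,
            List.getD_eq_default]
          · exact Nat.zero_testBit l
          · simp only [List.length_cons, List.length_nil]; omega
        show powC (threeS.elt.get i) (2 + 1) < _
        rw [powC]
        exact hl _ _
      refine matC_inj R.x R.hx hpl (by decide) ?_
      rw [matC_pow _ R.hx, ← e, ← map_pow, conj_pow, ht, mul_one, mul_inv_cancel, map_one, matC_one]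
    rw [(nat_beq_iff _ _).mpr h31, cond_true, Bool.or_eq_true, nat_beq_iff] at hrest
    rcases hrest with hrest | hrest
    · rw [hrest] at e
      have := hmat1 _ e
      rw [mul_inv_eq_one] at this
      exact absurd (mul_left_cancel (this.trans (mul_one c).symm)) htne
    simp only [Bool.and_eq_true, Bool.or_eq_true, nat_beq_iff] at hrest
    obtain ⟨hwk, hcm⟩ := hrest
    set m := R.ev (threeW.getD (Nat.div (threeS.cert.get i) 2) [])
    set j := Nat.mod (threeS.cert.get i) 2
    have hj : j < 2 := Nat.mod_lt _ (by norm_num)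
    set T := R.ev (repW.getD j [])
    set d := c * t * c⁻¹
    have hdT : m * d = T * m ∨ m * d ^ 2 = T * m := by
      rcases hcm with h | h
      · left
        exact R.inj (by rw [map_mul R.A m d, map_mul R.A T m, R.A_ev _ hwk, hrep j hj, e, ← matC_mul _ R.hx, ← matC_mul _ R.hx, h])
      · right
        exact R.inj (by rw [map_mul R.A m (d ^ 2), map_mul R.A T m, map_pow R.A d 2, pow_two, R.A_ev _ hwk, hrep j hj, e, ← matC_mul _ R.hx,
          ← matC_mul _ R.hx, ← matC_mul _ R.hx, h])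
    set r' := m * (c * r * c⁻¹) * m⁻¹
    have hcd : Commute (c * r * c⁻¹) d := by
      show _ * _ = _ * _
      simp only [d, ← mul_assoc, inv_mul_cancel_right]
      rw [mul_assoc c r t, hrt, ← mul_assoc]
    have hr'T : r' * T = T * r' := by
      have key : ∀ z : G, Commute (c * r * c⁻¹) z → r' * (m * z * m⁻¹) = m * z * m⁻¹ * r' := fun z hz => by
        calc r' * (m * z * m⁻¹) = m * ((c * r * c⁻¹) * z) * m⁻¹ := by simp only [r']; group
          _ = m * (z * (c * r * c⁻¹)) * m⁻¹ := by rw [hz.eq]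
          _ = _ := by simp only [r']; group
      rcases hdT with h | h
      · rw [show T = m * d * m⁻¹ by rw [h, mul_inv_cancel_right]]
        exact key d hcd
      · rw [show T = m * d ^ 2 * m⁻¹ by rw [h, mul_inv_cancel_right]]
        exact key _ (hcd.pow_right 2)
    have hr' : r' ^ 7 = 1 := by simp only [r', conj_pow, hr, mul_one, mul_inv_cancel]
    have hr'ne : r' ≠ 1 := fun h => hrne (by
      simp only [r', mul_inv_eq_one] at h
      have := mul_left_cancel (h.trans (mul_one m).symm)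
      rw [mul_inv_eq_one] at this
      exact mul_left_cancel (this.trans (mul_one c).symm))
    suffices h : FixFree (R.A r') from hfree c r (hfree m _ h)
    rcases (show j = 0 ∨ j = 1 by omega) with hj0 | hj0
    · have hperm : ∀ a : Fin zS.n, (σ T a : ℕ) = permA.get a := fun a => by
        have h := Cert.permA_ok (i := (a : ℕ)) a.2
        simp only [ConjData.okPerm, Bool.and_eq_true, Nat.blt_eq, nat_beq_iff] at h
        rw [hσc T _ a ⟨_, h.1⟩ (hrep j hj) (by rw [hj0]; exact h.2)]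
      obtain ⟨p, hp⟩ := exists_common_fixed τ hr'T hr' (by
        rw [Finset.filter_congr (q := fun b : Fin triS.n => Nat.beq (triBits permA.get (triS.tri.get b))
          (triBits id (triS.tri.get b)) = true) fun b _ => by rw [hτc T _ hperm b, nat_beq_iff], ← countR_eq
          (fun b => Nat.beq (triBits permA.get (triS.tri.get b)) (triBits id (triS.tri.get b))) triS.n,
          show triS.n = 2457 from rfl, Cert.count_a]
        norm_num)
      refine hpowfree _ r' ht7 htfree hr' hr'ne (exists_conj_pow τ ⟨0, by decide⟩ hτt (k := 86016) ?_ (by decide) ht7 ?_ hr' hp)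
      · rw [hG]; decide
      · set h := R.ev htW
        have h3 := Cert.fix_z.2
        simp only [ConjData.okThree, Bool.and_eq_true, Nat.blt_eq, nat_beq_iff] at h3
        obtain ⟨⟨⟨h1, h2⟩, h2'⟩, h4⟩ := h3
        have hAh : R.A h = matC R.x htC := by rw [R.A_ev _ ht4, ht1]
        let v0 := triS.tri.get 0
        have hf : ∀ a : Fin zS.n, (σ h a : ℕ) = (fun a => (σ h ⟨a % zS.n, Nat.mod_lt _ (by decide)⟩ : ℕ)) a := fun a => by
          simp only [Nat.mod_eq_of_lt a.2]
        refine (hτc h (fun a => (σ h ⟨a % zS.n, Nat.mod_lt _ (by decide)⟩ : ℕ)) hf _).mpr ?_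
        have hb : ∀ {b : ℕ} {a : ℕ}, b < zS.n → ∀ (hab : a < zS.n),
            mulC (zS.elt.get a) htC = mulC htC (zS.elt.get b) →
            (σ h ⟨b % zS.n, Nat.mod_lt _ (by decide)⟩ : ℕ) = a := fun {b a} hb hab e => by
          rw [hσc h _ ⟨b % zS.n, _⟩ ⟨a, hab⟩ hAh (by simpa [Nat.mod_eq_of_lt hb] using e)]
        have hr0 := Cert.tri_ok (i := 0) (by decide)
        simp only [TriData.okAt, Bool.and_eq_true, Nat.blt_eq] at hr0
        obtain ⟨⟨⟨⟨⟨⟨ha, hb'⟩, hc'⟩, -⟩, -⟩, -⟩, -⟩ := hr0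
        show triBits _ (triS.tri.get 0) = triBits id (triS.tri.get 0)
        rw [← h4, triBits, hb ha h1.1 h1.2, hb hb' h2.1 h2.2, hb hc' h2'.1 h2'.2]
    · have hperm : ∀ a : Fin zS.n, (σ T a : ℕ) = permB.get a := fun a => by
        have h := Cert.permB_ok (i := (a : ℕ)) a.2
        simp only [ConjData.okPerm, Bool.and_eq_true, Nat.blt_eq, nat_beq_iff] at h
        rw [hσc T _ a ⟨_, h.1⟩ (hrep j hj) (by rw [hj0]; exact h.2)]
      obtain ⟨p, hp⟩ := exists_common_fixed σ hr'T hr' (by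
        rw [Finset.filter_congr (q := fun b : Fin zS.n => Nat.beq (permB.get b) b = true) fun b _ => by
          rw [nat_beq_iff, Fin.ext_iff, hperm], ← countR_eq (fun b => Nat.beq (permB.get b) b) zS.n,
          show zS.n = 819 from rfl, Cert.count_b]
        norm_num)
      refine hpowfree _ r' hz7 hzfree hr' hr'ne (exists_conj_pow σ ⟨0, by decide⟩ hσt (k := 258048) ?_ (by decide) hz7 ?_ hr' hp)
      · rw [hG]; decide
      · exact hσc _ _ _ _ (by rw [R.A_ev _ hz4, hz1]) Cert.fix_z.1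

end Cfsg.Lib.TriSpec
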